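import Cfsg.Agent.M12C.Loc2
import Cfsg.Agent.M12C.Data

/-! Finite computations in the model of type `A₈`. -/

set_option autoImplicit false
set_option maxRecDepth 100000
set_option synthInstance.maxSize 4000

namespace Cfsg.Agent.M12C.TA

open Cfsg.Agent.Mat

/-- Words in the model. -/
@[irreducible] def w (l : List ℕ) : cl msA := el msA l

theorem w_eq : w = el msA := by funext; rw [w]

/-- The central involution. -/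
abbrev z : cl msA := w [0, 0]
/-- `(02)(13)(46)(57)` -/
abbrev s1 : cl msA := w [2, 4, 6]
/-- `(02)(13)(47)(56)` -/
abbrev s2 : cl msA := w [0, 2, 6]
/-- `(05)(14)(27)(36)` -/
abbrev e1 : cl msA := w [0, 7]
/-- `(05)(14)(26)(37)` -/
abbrev e2 : cl msA := w [2, 5]
/-- `(01)(23)` -/
abbrev t0 : cl msA := w [0, 4]
/-- `(02)(13)` -/
abbrev t1 : cl msA := w [0, 0, 10]
/-- `(45)(67)` -/
abbrev z' : cl msA := w [0, 5]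
/-- `(47)(56)` -/
abbrev s' : cl msA := w [6, 10, 6]
/-- `(23)(67)` -/
abbrev c : cl msA := w [0, 2, 4, 7]
/-- `(024)(135)` -/
abbrev x : cl msA := w [8]
/-- `(026)(137)` -/
abbrev x' : cl msA := w [4, 9, 0]
/-- `(03)(12)(45)(67)` -/
abbrev t : cl msA := w [10]
/-- `(05)(14)(23)(67)` -/
abbrev xt : cl msA := w [8, 10]
/-- A normal subgroup of order eight. -/
abbrev E1 : List (cl msA) := [[], [0, 0], [0, 6], [0, 7], [0, 2, 4], [0, 2, 5], [2, 4, 6], [2, 4, 7]].map w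
/-- A normal subgroup of order eight. -/
abbrev E2 : List (cl msA) := [[], [0, 0], [2, 4], [2, 5], [0, 2, 6], [0, 2, 7], [0, 4, 6], [0, 4, 7]].map w
/-- The fixed point free involutions. -/
abbrev ZL : List (cl msA) := [[10], [0, 0], [0, 6], [0, 7], [2, 4], [2, 5], [8, 10], [9, 10], [0, 2, 4], [0, 2, 5], [0, 2, 6], [0, 2, 7], [0, 4, 6], [0, 4, 7], [0, 4, 10], [2, 4, 6], [2, 4, 7], [2, 10, 3], [6, 10, 7], [0, 6, 8, 10], [0, 9, 4, 10], [2, 4, 8, 10], [2, 6, 9, 10], [4, 9, 0, 10], [8, 2, 6, 10]].map w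
/-- The other involutions. -/
abbrev TL : List (cl msA) := [[0, 4], [0, 5], [2, 6], [2, 7], [0, 0, 10], [0, 5, 10], [2, 10, 2], [6, 10, 6], [0, 0, 8, 10], [0, 0, 9, 10], [0, 2, 4, 6], [0, 2, 4, 7], [0, 7, 8, 10], [0, 9, 5, 10], [2, 5, 8, 10], [2, 7, 9, 10], [4, 9, 1, 10], [8, 2, 7, 10]].map w
/-- Words. -/
abbrev W : List (List ℕ) := [[], [0], [1], [2], [0, 0], [0, 1], [0, 2], [1, 0], [1, 2], [2, 0], [0, 0, 0], [0, 0, 1], [0, 0, 2], [0, 1, 0], [0, 1, 2], [1, 0, 1], [1, 0, 2], [1, 2, 0], [2, 0, 1], [0, 0, 0, 1], [0, 0, 1, 0], [0, 0, 1, 2], [0, 1, 0, 1], [0, 1, 0, 2], [0, 1, 2, 0], [1, 0, 1, 2], [1, 2, 0, 1], [0, 0, 0, 1, 0], [0, 0, 1, 0, 1], [0, 1, 0, 1, 2], [0, 1, 2, 0, 1], [0, 0, 0, 1, 0, 1]]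
/-- Generators of the centralizer of `s1`. -/
abbrev js1 : List (cl msA) := [w [3], t, z']
/-- Generators of the centralizer of `s2`. -/
abbrev js2 : List (cl msA) := [w [7], t, z']
/-- The standard images. -/
abbrev A1 : cl msA → cl msA := al js1 [w [0, 7, 10], w [6, 10, 7], w [2, 10, 2]] W
/-- The standard images. -/
abbrev A2 : cl msA → cl msA := al js2 [w [2, 5, 10], w [2, 10, 3], s'] W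
/-- The twisted images. -/
abbrev A3 : cl msA → cl msA := al js2 [w [2, 4, 10], w [0, 4, 10], w [6, 10, 7]] W
/-- Generators for two automorphisms. -/
abbrev th : List (List (cl msA)) := [[[0], [1], [2], [3], [4], [5], [6], [7], [8], [9], [10]].map w,
  [[0], [1], [2], [3], [4], [5], [6], [7], [8], [9], [0, 0, 10]].map w]
/-- Generators for a triality automorphism. -/
abbrev tri : List (cl msA) := [[4, 7], [4, 6], [7], [6], [3], [2], [1], [0], [9], [8], [10]].map w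

theorem inj : ∀ v : cl msA, v = 1 ∨ v = z ∨ (∃ c, c * v * c⁻¹ * v⁻¹ = z) ∨
    ∃ c d, d * (c * v * c⁻¹ * v⁻¹) * d⁻¹ * (c * v * c⁻¹ * v⁻¹)⁻¹ = z := by decide +kernel

theorem zc : (∀ v, v * z = z * v) ∧ z * z = 1 ∧ z ≠ 1 := by decide +kernel

theorem cls : ∀ v : cl msA, v * v = 1 → v = 1 ∨ v = z ∨ (∃ l, l * s1 * l⁻¹ = v) ∨ (∃ l, l * s2 * l⁻¹ = v) ∨
    (∃ l, l * t0 * l⁻¹ = v) ∨ ((v * (x * v * x⁻¹)) ^ 4 ≠ 1 ∧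
      ((∃ l, l * w [0, 4, 10] * l⁻¹ = v) ∨ ∃ l, l * t1 * l⁻¹ = v)) := by decide +kernel

theorem clsZ : (∀ v ∈ ZL, v = z ∨ (∃ l, l * s1 * l⁻¹ = v) ∨ (∃ l, l * s2 * l⁻¹ = v) ∨
      ∃ l, l * w [0, 4, 10] * l⁻¹ = v) ∧ (∀ v ∈ TL, (∃ l, l * t0 * l⁻¹ = v) ∨ ∃ l, l * t1 * l⁻¹ = v) ∧
    ∀ v : cl msA, v * v = 1 → v = 1 ∨ v ∈ ZL ∨ v ∈ TL := by decide +kernel

theorem F1 : ∀ v : cl msA, v * v = 1 → v ≠ 1 → v ≠ z → (∀ r, r * v = v * r → r * r = 1 ∨ r * r = z) ∨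
    ∃ c, c * c = 1 ∧ c * v * c⁻¹ = z * v := by decide +kernel

theorem F23 : ∀ p ∈ [(s1, e2), (s2, e1)], (∃ r, r * p.1 = p.1 * r ∧ r * r = z) ∧
    (∀ r, r * p.1 = p.1 * r → r ^ 4 = 1) ∧ p.2 * p.2 = 1 ∧ p.2 * p.1 * p.2⁻¹ = z * p.1 ∧ p.1 * p.1 = 1 ∧ p.1 ≠ z := by
  decide +kernel

theorem F4 : ∀ v : cl msA, v * v = 1 → v ≠ 1 → v ≠ z → ∀ r, r * v = v * r → r ^ 8 = 1 := by decide +kernel

theorem F5 : ∀ r : cl msA, r ^ 3 = 1 → r ≠ 1 → ∀ v, v * v = 1 → v * r = r * v → v = 1 ∨ v = z := by decide +kernel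

theorem eData1 : EData z s1 E1 := by decide +kernel

theorem hW : (∀ j ∈ js1, j * s1 = s1 * j) ∧ (∀ r, r * s1 = s1 * r → ev js1 (wd js1 W r) = r) ∧
    (∀ j ∈ js2, j * s2 = s2 * j) ∧ ∀ r, r * s2 = s2 * r → ev js2 (wd js2 W r) = r := by decide +kernel

/-- The possible actions of an element of order three. -/
abbrev P1 (i1 i2 i3 : cl msA) : Prop :=
  ∃ r ∈ [1, w [2]], r * e2 = e2 * r ∧ ∃ gs ∈ th,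
    ∀ p ∈ [([3], [0, 7, 10]), ([10], [6, 10, 7]), ([0, 5], [2, 10, 2])],
      r⁻¹ * ev gs p.1 * r * s1 = s1 * (r⁻¹ * ev gs p.1 * r) ∧
        r * al js1 [i1, i2, i3] W (r⁻¹ * ev gs p.1 * r) * r⁻¹ = ev gs p.2

/-- The possible actions of an element of order three. -/
abbrev P2 (i1 i2 i3 : cl msA) : Prop :=
  ∃ r ∈ [1, w [6]], r * e1 = e1 * r ∧ (∀ j ∈ js2, r⁻¹ * j * r * s2 = s2 * (r⁻¹ * j * r)) ∧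
    ∃ is ∈ [[w [2, 5, 10], w [2, 10, 3], s'], [w [2, 4, 10], w [0, 4, 10], w [6, 10, 7]]],
      js2.map (fun j => r * al js2 [i1, i2, i3] W (r⁻¹ * j * r) * r⁻¹) = is

theorem hP1 : ∀ i1, i1 * s1 = s1 * i1 → (∀ v ∈ [[0, 0]], Rel z s1 [w [3]] [i1] v) →
    ∀ i2, i2 * s1 = s1 * i2 → (∀ v ∈ [[1, 1], [0, 1, 0, 1]], Rel z s1 [w [3], t] [i1, i2] v) →
    ∀ i3, i3 * s1 = s1 * i3 → (∀ v ∈ [[2, 2], [0, 2, 0, 2], [1, 2, 1, 2]], Rel z s1 js1 [i1, i2, i3] v) →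
    (∀ j ∈ js1, al js1 [i1, i2, i3] W (e2 * al js1 [i1, i2, i3] W j * e2⁻¹) = e2 * j * e2⁻¹ ∧
      al js1 [i1, i2, i3] W (al js1 [i1, i2, i3] W (al js1 [i1, i2, i3] W j)) = j) → P1 i1 i2 i3 := by
  decide +kernel

theorem hP2 : ∀ i1, i1 * s2 = s2 * i1 → (∀ v ∈ [[0, 0]], Rel z s2 [w [7]] [i1] v) →
    ∀ i2, i2 * s2 = s2 * i2 → (∀ v ∈ [[1, 1], [0, 1, 0, 1]], Rel z s2 [w [7], t] [i1, i2] v) →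
    ∀ i3, i3 * s2 = s2 * i3 → (∀ v ∈ [[2, 2], [0, 2, 0, 2], [1, 2, 1, 2]], Rel z s2 js2 [i1, i2, i3] v) →
    (∀ j ∈ js2, al js2 [i1, i2, i3] W (e1 * al js2 [i1, i2, i3] W j * e1⁻¹) = e1 * j * e1⁻¹ ∧
      al js2 [i1, i2, i3] W (al js2 [i1, i2, i3] W (al js2 [i1, i2, i3] W j)) = j) → P2 i1 i2 i3 := by
  decide +kernel

theorem hth : ∀ gs ∈ th, gs.length = 11 ∧ (∀ r ∈ relsA, ev gs r = 1) ∧ ev gs [0, 0] = z ∧ ev gs [2, 5] = e2 ∧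
    ev gs [0, 2, 6] = s2 ∧ ev gs [0, 4] = t0 := by
  decide +kernel

theorem htri : (∀ r ∈ relsA, ev tri r = 1) ∧ ev tri [0, 0] = z ∧ (∃ l, l * s2 * l⁻¹ = ev tri [2, 4, 6]) ∧
    (∃ l, l * t0 * l⁻¹ = ev tri [0, 2, 6]) ∧ ∃ l, l * s1 * l⁻¹ = ev tri [0, 4] := by
  decide +kernel

theorem hJ : ∀ j, j * t = t * j → j * s1 = s1 * j ∧ j * s2 = s2 * j ∧ A1 j * t = t * A1 j ∧ A2 j * t = t * A2 j ∧
    A3 j * t = t * A3 j ∧ A1 (A2 j) = A2 (A1 j) ∧ j * j = 1 ∧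
    (e1 * j * e1⁻¹ = A2 j → e2 * j * e2⁻¹ = A1 j → j = 1 ∨ A2 j * s1 = A2 s1) ∧
    (j ∈ TL → j = t0 ∨ j = t1 ∨ j = t0 * t1 ∨ j = z' ∨ j = s' ∨ j = z' * s') ∧
    (j ∈ ZL → j * t0 ∈ ZL ∨ j * t1 ∈ ZL) ∧
    ∃ p ∈ [1, t0, t1, t0 * t1], ∃ q ∈ [1, z', s', z' * s'], j = p * q := by
  decide +kernel

theorem hA : A1 z = s1 ∧ A2 z = s2 ∧ A1 s1 = z * s1 ∧ A1 e1 = e1 ∧ A2 e2 = e2 ∧ A1 (w [0, 4, 10]) = z * s2 ∧ A1 t0 = t1 ∧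
    (∀ e ∈ E1, e * s1 = s1 * e ∧ A1 e ∈ E1) ∧ (∃ l, l * s2 * l⁻¹ = z * s2) ∧
    A1 (A3 (A1 (A3 (A1 z)))) = z ∧ A1 (A3 (A1 (A3 (A1 t)))) = t1 ∧ (∀ l, l * t * l⁻¹ ≠ t1) ∧
    z * t = t * z ∧ s1 * t = t * s1 ∧ e1 * s1 = s1 * e1 ∧ e2 * s2 = s2 * e2 ∧ w [0, 4, 10] * t = t * w [0, 4, 10] ∧
    t0 * t = t * t0 ∧ t1 * t = t * t1 ∧ z' * t = t * z' ∧ s' * t = t * s' := by
  decide +kernel

theorem hB : A1 (A2 z') = z' ∧ A1 (A2 s') = s' ∧ A1 (A2 z) ≠ z ∧ (∃ l, l * t0 * l⁻¹ = z') ∧ s' ≠ 1 ∧ s' ≠ z' ∧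
    A1 (A2 (A2 t0)) = t0 ∧ A1 (A2 (A2 t1)) = t1 ∧ A1 (A2 (A2 z')) = s' ∧ A1 (A2 (A2 s')) = z' * s' ∧
    e1 * e2 = c ∧ e2 * e1 = c ∧ xt * xt = 1 ∧ e1 * e1 = 1 ∧ e2 * e2 = 1 ∧ e1 ∈ ZL ∧ e2 ∈ ZL ∧
    (∀ e ∈ E1, xt * A1 (e2 * (xt * A1 (e2 * (xt * A1 (e2 * e * e2⁻¹) * xt⁻¹) * e2⁻¹) * xt⁻¹) * e2⁻¹) * xt⁻¹ = e ∧
      e2 * e * e2⁻¹ ∈ E1 ∧ xt * e * xt⁻¹ ∈ E1 ∧ e * e = 1 ∧
      (xt * e * xt⁻¹ = e → A1 (e2 * e * e2⁻¹) = e → e = 1 ∨ xt * e ∈ TL)) ∧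
    (∀ e ∈ E2, xt * A2 (e1 * (xt * A2 (e1 * (xt * A2 (e1 * e * e1⁻¹) * xt⁻¹) * e1⁻¹) * xt⁻¹) * e1⁻¹) * xt⁻¹ = e ∧
      e1 * e * e1⁻¹ ∈ E2 ∧ xt * e * xt⁻¹ ∈ E2 ∧ e * e = 1 ∧
      (xt * e * xt⁻¹ = e → A2 (e1 * e * e1⁻¹) = e → e = 1 ∨ xt * e ∈ TL)) ∧
    (∀ e ∈ E2, e * s2 = s2 * e ∧ A2 e ∈ E2) ∧ (∀ g, (∀ e ∈ E2, g * e = e * g) → g ∈ E2) ∧ z ∈ E1 ∧ z ∈ E2 := by
  decide +kernel

theorem hC : (∀ v, v * t0 = t0 * v → v ^ 4 = 1 ∧ (v * t1 = t1 * v → v * t = t * v) ∧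
      ((∀ r, r * t0 = t0 * r → r * v = v * r) → v ∈ ZL → v = z) ∧
      (v ∈ TL → t0 * v ∈ TL → v = t1 ∨ v = t1 * t0 ∨ z * v ∈ TL)) ∧
    t0 * z' = z ∧ t0 * t0 = 1 ∧ t1 * t1 = 1 ∧ t0 * t1 = t1 * t0 ∧ z' * z' = 1 ∧ s' * s' = 1 ∧ z' * s' = s' * z' ∧
    c * c = 1 ∧ c * t0 * c⁻¹ = t0 ∧ c * t1 * c⁻¹ = t1 * t0 ∧ c * z' * c⁻¹ = z' ∧ c * s' * c⁻¹ = z' * s' ∧
    x' ^ 3 = 1 ∧ x' * t0 * x'⁻¹ = c ∧ x' * c * x'⁻¹ = t0 * c ∧ w [0, 6, 8] = x'⁻¹ ∧ t0 ∈ TL ∧ t1 ∈ TL ∧ t0 * t1 ∈ TL ∧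
    z' ∈ TL ∧ s' ∈ TL ∧ z' * s' ∈ TL ∧ t0 * s' ∈ ZL ∧ z * (t0 * s') * t0 ∈ ZL ∧ z ∈ ZL ∧ z' ≠ 1 ∧ t0 ≠ 1 := by
  decide +kernel

theorem hD : A1 (w [3]) * w [4, 10, 6] = 1 ∧ A1 t * w [6, 10, 7] = 1 ∧ A1 z' * w [2, 10, 2] = 1 ∧
    A2 (w [7]) * w [0, 10, 2] = 1 ∧ A2 t * w [2, 10, 3] = 1 ∧ A2 z' * s' = 1 := by
  decide +kernel

end Cfsg.Agent.M12C.TA
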