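import Cfsg.Agent.M12C.Loc2
import Cfsg.Agent.M12C.Data

/-! Finite computations in the model of type `M₁₂`. -/

set_option autoImplicit false
set_option maxRecDepth 100000
set_option synthInstance.maxSize 4000

namespace Cfsg.Agent.M12C.TM

open Cfsg.Agent.Mat

/-- Words in the model. -/
@[irreducible] def w (l : List ℕ) : cl msM := el msM l

theorem w_eq : w = el msM := by funext; rw [w]

/-- The central involution. -/
abbrev z : cl msM := w [0, 0]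
/-- An involution of the normal subgroup of order eight. -/
abbrev u : cl msM := w [0, 4]
/-- Another involution. -/
abbrev n : cl msM := w [2, 4, 6]
/-- A conjugate of `n`. -/
abbrev c : cl msM := w [0, 2, 4]
/-- An element of order three. -/
abbrev x : cl msM := w [8]
/-- An outer involution. -/
abbrev t : cl msM := w [9, 10]
/-- The normal subgroup of order eight. -/
abbrev EL : List (cl msM) := [[], [0, 0], [0, 4], [0, 5], [2, 6], [2, 7], [0, 2, 4, 6], [0, 2, 4, 7]].map w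
/-- Generators of the centralizer of `u`. -/
abbrev js : List (cl msM) := [w [5], t, n]
/-- Words for the centralizer of `u`. -/
abbrev W : List (List ℕ) := [[], [0], [1], [2], [0, 0], [0, 1], [0, 2], [1, 0], [1, 2], [2, 0], [2, 1], [0, 0, 0], [0, 0, 1], [0, 0, 2], [0, 1, 2], [0, 2, 1], [1, 0, 2], [1, 2, 1], [2, 0, 1], [2, 1, 2], [0, 0, 1, 2], [0, 0, 2, 1], [0, 1, 2, 1], [0, 2, 1, 2], [1, 0, 2, 1], [1, 2, 1, 2], [2, 0, 1, 2], [0, 0, 1, 2, 1], [0, 0, 2, 1, 2], [0, 1, 2, 1, 2], [1, 0, 2, 1, 2], [0, 0, 1, 2, 1, 2]]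
/-- The standard images. -/
abbrev std : List (cl msM) := [w [2, 6, 9, 10], w [0, 2, 4, 6], n]
/-- Generators for two automorphisms. -/
abbrev th : List (List (cl msM)) := [[[0], [1], [2], [3], [4], [5], [6], [7], [8], [9], [10]].map w,
  [[0], [1], [2], [3], [4], [5], [6], [7], [8], [9], [0, 0, 10]].map w]

theorem inj : ∀ v : cl msM, v = 1 ∨ v = z ∨ (∃ c, c * v * c⁻¹ * v⁻¹ = z) ∨
    ∃ c d, d * (c * v * c⁻¹ * v⁻¹) * d⁻¹ * (c * v * c⁻¹ * v⁻¹)⁻¹ = z := by decide +kernel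

theorem zc : (∀ v, v * z = z * v) ∧ z * z = 1 ∧ z ≠ 1 := by decide +kernel

theorem cls : ∀ v : cl msM, v * v = 1 → v = 1 ∨ v = z ∨ (∃ l, l * u * l⁻¹ = v) ∨ (∃ l, l * n * l⁻¹ = v) ∨
    ((v * (x * v * x⁻¹)) ^ 4 ≠ 1 ∧ ∃ l, l * t * l⁻¹ = v) := by decide +kernel

theorem F1 : ∀ v : cl msM, v * v = 1 → v ≠ 1 → v ≠ z → (∀ r, r * v = v * r → r * r = 1 ∨ r * r = z) ∨
    ∃ c, c * c = 1 ∧ c * v * c⁻¹ = z * v := by decide +kernel

theorem F23 : (∃ r, r * u = u * r ∧ r * r = z) ∧ (∀ r, r * u = u * r → r ^ 4 = 1) ∧ c * c = 1 ∧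
    c * u * c⁻¹ = z * u ∧ u * u = 1 ∧ u ≠ z := by decide +kernel

theorem F4 : ∀ v : cl msM, v * v = 1 → v ≠ 1 → v ≠ z → ∀ r, r * v = v * r → r ^ 8 = 1 := by decide +kernel

theorem nZ : (∃ r, r * n = n * r ∧ r * r = z) ∧
    (∀ v : cl msM, v * v = 1 → (∃ r, r * r = v) → ∃ r, r * r = z ∧ r * v = v * r) ∧ ∀ r, r * r ≠ n := by
  decide +kernel

theorem eData : EData z u EL := by decide +kernel

theorem hW : (∀ j ∈ js, j * u = u * j) ∧ ∀ r, r * u = u * r → ev js (wd js W r) = r := by decide +kernel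

/-- The possible actions of an element of order three. -/
abbrev P (i1 i2 i3 : cl msM) : Prop :=
  ((∀ e ∈ EL, e * u = u * e ∧ al js [i1, i2, i3] W e ∈ EL) ∧ ∃ l, l * t * l⁻¹ = al js [i1, i2, i3] W n) ∨
  ∃ r ∈ [1, w [5]], r * c = c * r ∧ ∃ gs ∈ th,
    ∀ p ∈ [([5], [2, 6, 9, 10]), ([9, 10], [0, 2, 4, 6]), ([2, 4, 6], [2, 4, 6])],
      r⁻¹ * ev gs p.1 * r * u = u * (r⁻¹ * ev gs p.1 * r) ∧
        r * al js [i1, i2, i3] W (r⁻¹ * ev gs p.1 * r) * r⁻¹ = ev gs p.2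

theorem hP : ∀ i1, i1 * u = u * i1 → (∀ v ∈ [[0, 0]], Rel z u [w [5]] [i1] v) →
    ∀ i2, i2 * u = u * i2 → (∀ v ∈ [[1, 1], [0, 1, 0, 1]], Rel z u [w [5], t] [i1, i2] v) →
    ∀ i3, i3 * u = u * i3 → (∀ v ∈ [[2, 2], [0, 2, 0, 2], [1, 2, 1, 2]], Rel z u js [i1, i2, i3] v) →
    (∀ j ∈ js, al js [i1, i2, i3] W (c * al js [i1, i2, i3] W j * c⁻¹) = c * j * c⁻¹ ∧
      al js [i1, i2, i3] W (al js [i1, i2, i3] W (al js [i1, i2, i3] W j)) = j) → P i1 i2 i3 := by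
  decide +kernel

theorem hth : ∀ gs ∈ th, gs.length = 11 ∧ (∀ r ∈ relsM, ev gs r = 1) ∧ ev gs [0, 0] = z ∧ ev gs [0, 2, 4] = c := by
  decide +kernel

theorem hstd : al js std W z = u ∧ al js std W u = z * u ∧ (∀ p ∈ [z, u, z * u], x * p * x⁻¹ * u = u * (x * p * x⁻¹) ∧
    al js std W (x * p * x⁻¹) * w [10] ≠ w [10] * al js std W (x * p * x⁻¹)) ∧ (∃ l, l * t * l⁻¹ = w [10]) ∧
    (∃ l, l * u * l⁻¹ = w [0, 2, 4, 6]) ∧ w [2, 6, 9, 10] * w [9, 0, 4, 10] = 1 ∧ w [0, 2, 4, 6] * w [0, 2, 4, 6] = 1 := by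
  decide +kernel

theorem hn : (∀ s, s * n = n * s → (s * s = 1 ∨ s * s = z) ∧ s ^ 4 = 1 ∧ (s * s = 1 → s * u = u * s ∨ ∃ l, l * n * l⁻¹ = s) ∧
      (s * s = 1 → s ≠ 1 → (s = z ∨ s = u ∨ s = z * u) ∨ ∃ l, l * n * l⁻¹ = s) ∧
      (s * u = u * s → (s = 1 ∨ s = z ∨ s = u ∨ s = z * u) ∨ s * n = 1 ∨ s * n = z ∨ s * n = u ∨ s * n = z * u) ∧
      ∀ s', s' * n = n * s' → (s * w [2, 6] ≠ w [2, 6] * s → s' * w [2, 6] ≠ w [2, 6] * s' →
        s * s' * w [2, 6] = w [2, 6] * (s * s')) ∧ ((s * u = u * s ↔ s' * u = u * s') → s * s'⁻¹ * u = u * (s * s'⁻¹))) ∧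
    n * w [2, 6] ≠ w [2, 6] * n ∧ n * n = 1 ∧ n ≠ 1 ∧ n * u = u * n ∧ c * n = n * c ∧ x * n * x⁻¹ = c ∧
    n * c * (x⁻¹ * n * x) = 1 ∧ x ^ 3 = 1 ∧ w [9] = x⁻¹ := by
  decide +kernel

end Cfsg.Agent.M12C.TM
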