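import Cfsg.Agent.M12C.TypeA2

/-! The case of the centralizer of type `A₈`: the second centralizer. -/

set_option autoImplicit false
set_option linter.unusedSectionVars false

namespace Cfsg.Agent.M12C.TA

open Subgroup Cfsg.Agent.Local Cfsg.Agent.Mat
open scoped Pointwise commutatorElement

variable {G : Type*} [Group G] [Finite G] {f : cl msA →* G} {y1 y2 : G}

attribute [local irreducible] al cmul cinv

theorem Jc {j k : cl msA} (hj : j * t = t * j) (hk : k * t = t * k) : j * k = k * j := by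
  have := (hJ (j * k) (by rw [mul_assoc, hk, ← mul_assoc, hj, mul_assoc])).2.2.2.2.2.2.1
  rw [← inv_eq_of_mul_eq_one_right this, mul_inv_rev, inv_eq_of_mul_eq_one_right (hJ j hj).2.2.2.2.2.2.1,
    inv_eq_of_mul_eq_one_right (hJ k hk).2.2.2.2.2.2.1]

/-- The centralizer of a four-group. -/
abbrev H1 (f : cl msA →* G) : Subgroup G := centralizer {f t0} ⊓ centralizer {f t1}

theorem tJ : z * t = t * z ∧ t0 * t = t * t0 ∧ t1 * t = t * t1 ∧ z' * t = t * z' ∧ s' * t = t * s' :=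
  ⟨(zc.1 t).symm, hA.2.2.2.2.2.2.2.2.2.2.2.2.2.2.2.2.2⟩

theorem klY (f : cl msA →* G) : Char.Kl (f z') (f s') :=
  Char.Kl.map ⟨hC.2.2.2.2.2.1, hC.2.2.2.2.2.2.1, hC.2.2.2.2.2.2.2.1⟩ f

namespace Cfg

variable (h : Cfg f y1 y2)
include h

theorem mS : ∀ {g}, g ∈ H1 f ⊓ centralizer {f z} ↔ ∃ j, f j = g ∧ j * t = t * j := ⟨fun ⟨⟨h1, h2⟩, h3⟩ => by
    obtain ⟨j, rfl⟩ := h.loc.range _ (mem_centralizer_singleton_iff.mp h3)
    exact ⟨j, rfl, (hC.1 j (h.loc.comm_iff.mp (mem_centralizer_singleton_iff.mp h1))).2.1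
      (h.loc.comm_iff.mp (mem_centralizer_singleton_iff.mp h2))⟩, by
  rintro ⟨j, rfl, hj⟩
  exact ⟨⟨mem_centralizer_singleton_iff.mpr (h.loc.comm_iff.mpr (Jc hj tJ.2.1)),
    mem_centralizer_singleton_iff.mpr (h.loc.comm_iff.mpr (Jc hj tJ.2.2.1))⟩,
    mem_centralizer_singleton_iff.mpr (h.loc.comm j)⟩⟩

theorem Sc {a b : G} (ha : a ∈ H1 f ⊓ centralizer {f z}) (hb : b ∈ H1 f ⊓ centralizer {f z}) : a * b = b * a := by
  obtain ⟨a, rfl, ha'⟩ := h.mS.mp ha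
  obtain ⟨b, rfl, hb'⟩ := h.mS.mp hb
  exact h.loc.comm_iff.mpr (Jc ha' hb')

theorem yy : (y1 * y2⁻¹) ^ 3 = 1 ∧ y1 * y2⁻¹ ∈ H1 f ∧ y1 * y2⁻¹ * f z' * (y1 * y2⁻¹)⁻¹ = f s' ∧
    y1 * y2⁻¹ * f s' * (y1 * y2⁻¹)⁻¹ = f z' * f s' ∧ f c * (y1 * y2⁻¹) * (f c)⁻¹ = (y1 * y2⁻¹)⁻¹ := by
  obtain ⟨-, -, -, -, -, -, d1, d2, d3, d4, d5, -⟩ := hB
  obtain ⟨-, -, -, b1, b2, -, -, -, -, -, -, -, -, -, b3, b4, -⟩ := hA
  have hc : Commute y1 y2 := h.comm
  refine ⟨by rw [hc.inv_right.mul_pow, inv_pow, h.c1, h.c2]; simp, ⟨mem_centralizer_singleton_iff.mpr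
    (mul_inv_eq_iff_eq_mul.mp ((h.j122 tJ.2.1).trans (congrArg f d1))), mem_centralizer_singleton_iff.mpr
    (mul_inv_eq_iff_eq_mul.mp ((h.j122 tJ.2.2.1).trans (congrArg f d2)))⟩, (h.j122 tJ.2.2.2.1).trans (congrArg f d3),
    by rw [h.j122 tJ.2.2.2.2, d4, map_mul], ?_⟩
  have k4 : f e1 * y1 * (f e1)⁻¹ = y1 := by
    rw [← mul_inv_eq_iff_eq_mul.mp ((h.a1 _ b3).trans (congrArg f b1)), mul_inv_cancel_right]
  have k5 : f e2 * y2 * (f e2)⁻¹ = y2 := by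
    rw [← mul_inv_eq_iff_eq_mul.mp ((h.a2 _ b4).trans (congrArg f b2)), mul_inv_cancel_right]
  calc _ = f e1 * (f e2 * y1 * (f e2)⁻¹ * (f e2 * y2 * (f e2)⁻¹)⁻¹) * (f e1)⁻¹ := by rw [← d5, map_mul]; group
    _ = _ := by rw [h.i1, k5, ← conj_mul, ← conj_inv, ← conj_inv, k4, h.i2, inv_inv, mul_inv_rev, inv_inv,
      hc.inv_left.eq]

theorem mV {q : G} (hq : q ∈ (klY f).V) : q = 1 ∨ ∃ v ∈ TL, f v = q ∧ v * t = t * v := by
  obtain ⟨-, -, -, -, -, -, -, -, -, -, -, -, -, -, -, -, -, -, -, -, d1, d2, d3, -⟩ := hC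
  rcases hq with e | e | e | e
  exacts [.inl e, .inr ⟨_, d1, e.symm, tJ.2.2.2.1⟩, .inr ⟨_, d2, e.symm, tJ.2.2.2.2⟩, .inr ⟨_, d3, by rw [e, map_mul],
    by rw [mul_assoc, tJ.2.2.2.2, ← mul_assoc, tJ.2.2.2.1, mul_assoc]⟩]

theorem VS {q : G} (hq : q ∈ (klY f).V) : q ∈ H1 f ⊓ centralizer {f z} :=
  (h.mV hq).elim (fun e => e ▸ one_mem _) fun ⟨v, _, e⟩ => h.mS.mpr ⟨v, e⟩

theorem mem_TL {v v' : cl msA} (hv : v ∈ TL) (e : IsConj (f v) (f v')) : v' ∈ TL := by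
  obtain ⟨k, -, e1⟩ := h.hT (K := ⊤) (fun _ => trivial) trivial v hv
  obtain ⟨g, e2⟩ := isConj_iff.mp ((isConj_iff.mpr ⟨k, e1⟩).trans e)
  refine ((clsZ.2.2 v' (h.loc.inj ?_)).resolve_left fun e => ?_).resolve_left fun e3 => h.isT hv ((h.isZ e3).trans e.symm)
  · rw [map_mul, ← e2, CIT.conj_sq (by rw [← map_mul, hC.2.2.1, map_one]), map_one]
  · rw [e, map_one] at e2
    exact CIT.conj_ne_one (h.loc.ne hC.2.2.2.2.2.2.2.2.2.2.2.2.2.2.2.2.2.2.2.2.2.2.2.2.2.2.2) e2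

theorem K1 {p : G} (hp : p ∈ (klY f).V) (p1 : p ≠ 1) : ∀ g ∈ H1 f, g * p = p * g → g ∈ H1 f ⊓ centralizer {f z} := by
  obtain ⟨-, d1, d2, d3, -⟩ := h.yy
  have k0 : ∀ g ∈ H1 f, g * f z' = f z' * g → g ∈ H1 f ⊓ centralizer {f z} := fun g hg e =>
    ⟨hg, mem_centralizer_singleton_iff.mpr (by
      rw [← hC.2.1, map_mul, ← mul_assoc, mem_centralizer_singleton_iff.mp hg.1, mul_assoc, e, mul_assoc])⟩
  have k1 : ∀ p, (∀ g ∈ H1 f, g * p = p * g → g ∈ H1 f ⊓ centralizer {f z}) → ∀ g ∈ H1 f,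
      g * (y1 * y2⁻¹ * p * (y1 * y2⁻¹)⁻¹) = y1 * y2⁻¹ * p * (y1 * y2⁻¹)⁻¹ * g → g ∈ H1 f ⊓ centralizer {f z} :=
    fun p hp g hg e => by
      obtain ⟨j, e1, hj⟩ := h.mS.mp (hp _ (mul_mem (mul_mem (inv_mem d1) hg) d1) (comm_conj' e))
      exact h.mS.mpr ⟨_, by rw [← h.j122 hj, e1]; group, (hJ _ (hJ _ (hJ _ hj).2.2.2.1).2.2.2.1).2.2.1⟩
  rcases hp with e | e | e | e
  exacts [absurd e p1, e ▸ k0, e ▸ d2 ▸ k1 _ k0, e ▸ d3 ▸ k1 _ (d2 ▸ k1 _ k0)]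

theorem K2 {g q : G} (hg : g ∈ H1 f) (hq : q ∈ (klY f).V) (e : g * q * g⁻¹ ∈ H1 f ⊓ centralizer {f z}) :
    g * q * g⁻¹ ∈ (klY f).V := by
  rcases h.mV hq with rfl | ⟨v, hv, rfl, -⟩
  · simp
  obtain ⟨j, e1, hj⟩ := h.mS.mp e
  have k1 : g * f j = f j * g → g * f v * g⁻¹ ∈ (klY f).V := fun e => by
    rwa [← e1, show f j = f v from (MulAut.conj g).injective (mul_inv_eq_iff_eq_mul.mpr e |>.trans e1)]
  have k2 := mem_centralizer_singleton_iff.mp hg.1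
  have k3 := mem_centralizer_singleton_iff.mp hg.2
  rcases (hJ j hj).2.2.2.2.2.2.2.2.1 (h.mem_TL hv (isConj_iff.mpr ⟨g, e1.symm⟩)) with
    rfl | rfl | rfl | rfl | rfl | rfl
  exacts [k1 k2, k1 k3, k1 (by rw [map_mul, ← mul_assoc, k2, mul_assoc, k3, mul_assoc]), e1 ▸ .inr (.inl rfl),
    e1 ▸ .inr (.inr (.inl rfl)), e1 ▸ .inr (.inr (.inr (map_mul _ _ _)))]

theorem syl1 : IsSylowIn 2 (H1 f ⊓ centralizer {f z}) (H1 f) := by
  refine isSylowIn_of_sq inf_le_left (fun s => ⟨1, Subtype.ext ?_⟩) fun g hg hn gg => ?_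
  · obtain ⟨j, e, hj⟩ := h.mS.mp s.2
    show s.1 ^ 2 = 1
    rw [← e, pow_two, ← map_mul, (hJ j hj).2.2.2.2.2.2.1, map_one]
  have k0 : f z' ∈ (klY f).V := .inr (.inl rfl)
  have k1 := h.K2 hg k0 (hn _ (h.VS k0))
  by_cases e : f z' * (g * f z' * g⁻¹) = 1
  · refine h.K1 k0 (h.loc.ne hC.2.2.2.2.2.2.2.2.2.2.2.2.2.2.2.2.2.2.2.2.2.2.2.2.2.2.1) g hg (mul_inv_eq_iff_eq_mul.mp ?_)
    rw [eq_inv_of_mul_eq_one_right e, (klY f).ip]
  · refine h.K1 (mul_mem k0 k1) e g hg (mul_inv_eq_iff_eq_mul.mp ?_)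
    calc _ = g * f z' * g⁻¹ * (g * g * f z' * (g * g)⁻¹) := by group
      _ = _ := by rw [h.Sc gg (h.VS k0), mul_inv_cancel_right, h.Sc (h.VS k1) (h.VS k0)]

theorem focal : ⁅H1 f, H1 f⁆ ⊓ (H1 f ⊓ centralizer {f z}) ≤ (klY f).V := focal_le h.syl1 fun a ha g hg hb => by
  obtain ⟨j, rfl, hj⟩ := h.mS.mp ha
  obtain ⟨p, hp, q, hq, rfl⟩ := (hJ j hj).2.2.2.2.2.2.2.2.2.2
  have k2 := mem_centralizer_singleton_iff.mp hg.1
  have k3 := mem_centralizer_singleton_iff.mp hg.2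
  have k4 : f q ∈ (klY f).V := by
    simp only [List.mem_cons, List.not_mem_nil, or_false] at hq
    rcases hq with rfl | rfl | rfl | rfl
    exacts [.inl (map_one f), .inr (.inl rfl), .inr (.inr (.inl rfl)), .inr (.inr (.inr (map_mul _ _ _)))]
  have k5 : g * f p = f p * g := by
    simp only [List.mem_cons, List.not_mem_nil, or_false] at hp
    rcases hp with rfl | rfl | rfl | rfl
    exacts [by simp, k2, k3, by rw [map_mul, ← mul_assoc, k2, mul_assoc, k3, mul_assoc]]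
  rw [map_mul] at ha hb ⊢
  have k6 := (Subgroup.mul_mem_cancel_right _ (h.VS k4)).mp ha
  rw [← conj_mul, k5, mul_inv_cancel_right] at hb ⊢
  have k7 := mul_mem k4 (inv_mem (h.K2 hg k4 ((Subgroup.mul_mem_cancel_left _ k6).mp hb)))
  rwa [mul_inv_rev, ← mul_assoc, mul_assoc (f p), h.Sc k6 (h.VS k7), mul_inv_cancel_right]

theorem normY : ∀ g ∈ centralizer {f t0}, g * f t1 * g⁻¹ = f t1 ∨ g * f t1 * g⁻¹ = f t1 * f t0 := by
  obtain ⟨c1, c2, c3, c4, c5, c6, c7, c8, -, -, -, -, -, -, -, -, -, T0, T1, T01, -, -, -, Z1, Z2, Z3, -, c9⟩ := hC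
  have m0 : ∀ {v}, f v ∈ centralizer {f t0} ↔ v * t0 = t0 * v := mem_centralizer_singleton_iff.trans h.loc.comm_iff
  have mz : ∀ v, f v ∈ centralizer {f z} := fun v => mem_centralizer_singleton_iff.mpr (h.loc.comm v)
  have t00 : f t0 * f t0 = 1 := by rw [← map_mul, c3, map_one]
  have hS : IsSylowIn 2 (centralizer {f t0} ⊓ centralizer {f z}) (centralizer {f t0}) := by
    refine isSylowIn_of_sq inf_le_left (fun s => ⟨2, Subtype.ext ?_⟩) fun g hg hn _ => ⟨hg, ?_⟩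
    · obtain ⟨v, e⟩ := h.loc.range _ (mem_centralizer_singleton_iff.mp s.2.2)
      show s.1 ^ 4 = 1
      rw [← e, ← map_pow, (c1 v (m0.mp (e ▸ s.2.1))).1, map_one]
    obtain ⟨k1, k2⟩ := hn _ ⟨m0.mpr (h.loc.cz _).symm, mz z⟩
    obtain ⟨v, e⟩ := h.loc.range _ (mem_centralizer_singleton_iff.mp k2)
    have hg' : g ∈ normalizer ((centralizer {f t0} ⊓ centralizer {f z} : Subgroup G) : Set G) :=
      mem_normalizer_of_conj_mem hn
    have := (c1 v (m0.mp (e ▸ k1))).2.2.1 (fun r hr => h.loc.comm_iff.mp (by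
      have := comm_conj (g := g) (mem_centralizer_singleton_iff.mp
        (conj_mem_of_mem_normalizer (inv_mem hg') (n := f r) ⟨m0.mpr hr, mz r⟩).2)
      rw [e]
      simpa [mul_assoc] using this)) (h.mem_ZL (isConj_iff.mpr ⟨g, e.symm⟩))
    exact mem_centralizer_singleton_iff.mpr (mul_inv_eq_iff_eq_mul.mp (e.symm.trans (congrArg f this)))
  have b1 : t0 * s' * t = t * (t0 * s') := by rw [mul_assoc, tJ.2.2.2.2, ← mul_assoc, tJ.2.1, mul_assoc]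
  refine zstar_mod hS (a := f z) (b := f (t0 * s')) (fun g => mem_centralizer_singleton_iff.mp) ⟨m0.mpr rfl, mz _⟩ t00
    ⟨m0.mpr c5.symm, mz _⟩ (by rw [← map_mul, c4, map_one]) (fun g hg hv => ?_) (m0.mpr (h.loc.cz _).symm)
    (m0.mpr (Jc b1 tJ.2.1)) ⟨h.loc.sq, by rw [← map_mul, (hJ _ b1).2.2.2.2.2.2.1, map_one], (h.loc.comm _).symm⟩
    fun e he => ?_
  · obtain ⟨v, e⟩ := h.loc.range _ (mem_centralizer_singleton_iff.mp hv.2)
    have g0 := mem_centralizer_singleton_iff.mp hg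
    rcases (c1 v (m0.mp (e ▸ hv.1))).2.2.2 (h.mem_TL T1 (isConj_iff.mpr ⟨g, e.symm⟩)) (h.mem_TL T01 (isConj_iff.mpr
      ⟨g, by rw [map_mul, map_mul, ← conj_mul, e, g0, mul_inv_cancel_right]⟩)) with rfl | rfl | e1
    · exact .inl e.symm
    · exact .inr (e.symm.trans (map_mul _ _ _))
    exfalso
    have k1 : g⁻¹ * f z * g ∈ H1 f := ⟨Subgroup.mul_mem _ (mul_mem (inv_mem hg) (m0.mpr (h.loc.cz _).symm)) hg,
      mem_centralizer_singleton_iff.mpr (comm_conj' (e ▸ (h.loc.comm v).symm))⟩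
    obtain ⟨k, hk, k2⟩ := exists_conj_mem_of_odd h.syl1.3 k1 (by simpa using CIT.conj_sq (g := g⁻¹) h.loc.sq)
    obtain ⟨j, e2, hj⟩ := h.mS.mp k2
    have k3 : g * k * f j * (g * k)⁻¹ = f z := by rw [e2]; group
    have k4 : g * k * f t0 * (g * k)⁻¹ = f t0 := by
      rw [mul_assoc g, mem_centralizer_singleton_iff.mp hk.1, ← mul_assoc, g0]; group
    have k5 : g * k * f t1 * (g * k)⁻¹ = f v := by
      rw [mul_assoc g, mem_centralizer_singleton_iff.mp hk.2, e]; group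
    rcases (hJ j hj).2.2.2.2.2.2.2.2.2.1 (h.mem_ZL (isConj_iff.mpr ⟨_, k3⟩).symm) with e3 | e3
    · refine h.I3 ((h.isZ e3).trans ((isConj_iff.mpr ⟨g * k, ?_⟩).trans (h.loc.isConj_of _ hB.2.2.2.1.choose_spec).symm))
      rw [map_mul, ← conj_mul, k3, k4, ← c2, map_mul, h.loc.comm_iff.mpr (Jc tJ.2.1 tJ.2.2.2.1), mul_assoc, t00, mul_one]
    · exact h.isT e1 ((h.isZ e3).trans (isConj_iff.mpr ⟨g * k, by rw [map_mul, ← conj_mul, k3, k5, map_mul]⟩))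
  · have k1 : IsConj (f z) e := by
      rcases he with rfl | rfl | rfl
      exacts [IsConj.refl _, h.isZ Z1, by rw [← map_mul, ← map_mul]; exact h.isZ Z2]
    have k2 : f t0 * e = e * f t0 := by
      rcases he with rfl | rfl | rfl
      exacts [h.loc.comm _, h.loc.comm_iff.mpr (Jc tJ.2.1 b1), (((show Commute _ _ from h.loc.comm t0).mul_right
        (h.loc.comm_iff.mpr (Jc tJ.2.1 b1))).mul_right rfl).eq]
    have k3 : e ≠ f t0 := fun e1 => h.I3 (e1 ▸ k1)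
    exact ⟨fun e1 => h.loc.ne h.loc.z1 (isConj_one_left.mp (e1 ▸ k1)), k3, fun x hx e1 =>
      h.loc.pow_of_comm F4 k1 t00 (h.loc.ne c9) k3.symm k2 e1 (mem_centralizer_singleton_iff.mp hx)⟩

theorem normH {g : G} (hg : g ∈ centralizer {f t0}) : ∀ x ∈ H1 f, g * x * g⁻¹ ∈ H1 f := fun x hx => by
  refine ⟨Subgroup.mul_mem _ (mul_mem hg hx.1) (inv_mem hg), mem_centralizer_singleton_iff.mpr ?_⟩
  have k1 : Commute x (f t0) := mem_centralizer_singleton_iff.mp hx.1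
  have k2 : Commute x (f t1) := mem_centralizer_singleton_iff.mp hx.2
  have : x * (g⁻¹ * f t1 * g⁻¹⁻¹) = g⁻¹ * f t1 * g⁻¹⁻¹ * x := by
    rcases h.normY _ (inv_mem hg) with e | e <;> rw [e]
    exacts [k2, k2.mul_right k1]
  simpa using comm_conj' this

theorem top {K : Subgroup G} (hK : ∀ u, f u ∈ K) (k1 : y1 ∈ K) (k2 : y2 ∈ K) {N : ℕ} (hd : Nat.card K ∣ 192 * N)
    (hN : ¬ 2 ∣ N) (H : ∀ g ∈ centralizer {f t0}, ∃ k ∈ K, k ∈ centralizer {f t0} ∧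
      k⁻¹ * (g * f z' * g⁻¹) * k ∈ (klY f).V) : K = ⊤ := by
  obtain ⟨-, d1, d2, d3, -⟩ := h.yy
  have hL : ∀ a, a * f z = f z * a → a ∈ K := fun a ha => by
    obtain ⟨v, rfl⟩ := h.loc.range a ha
    exact hK v
  refine eq_top_of_two_classes h.loc.sq (h.loc.ne h.loc.z1) (by rw [← map_mul, hC.2.2.1, map_one]) h.I3
    (fun a ha => hL a (mem_centralizer_singleton_iff.mp ha)) (fun g hg => ?_)
    (h.loc.relIndex_odd hK (cardA ▸ hd) hN) fun v vv v1 hv => ?_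
  · obtain ⟨k, hk, e1, e2⟩ := H g hg
    simpa using mul_mem hk (mem_of_norm (g := k⁻¹ * g) (klY f)
      (h.loc.ne hC.2.2.2.2.2.2.2.2.2.2.2.2.2.2.2.2.2.2.2.2.2.2.2.2.2.2.1) d2 d3 (mul_mem k1 (inv_mem k2)) d1.1
      (mul_mem (inv_mem e1) hg) (fun a ha e => hL a (by
        rw [← hC.2.1, map_mul, ← mul_assoc, mem_centralizer_singleton_iff.mp ha, mul_assoc, e, mul_assoc]))
      (by simpa [mul_assoc] using e2))
  · obtain ⟨v, rfl⟩ := h.loc.range v hv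
    rcases clsZ.2.2 v (h.loc.inj (by rw [map_mul, vv, map_one])) with rfl | e | e
    · exact absurd (map_one f) v1
    · exact (h.hZ hK k1 k2 v e).imp fun _ e => ⟨e.1, .inl e.2⟩
    · exact (h.hT hK k1 v e).imp fun _ e => ⟨e.1, .inr e.2⟩

theorem main : Nonempty (G ≃* alternatingGroup (Fin 8)) ∨ Nonempty (G ≃* alternatingGroup (Fin 9)) := by
  obtain ⟨d0, d1, d2, d3, d4⟩ := h.yy
  obtain ⟨c1, c2, c3, c4, c5, c6, c7, c8, cc, ct0, ct1, cz, cs, x3, xt0, xc, xi, -, -, -, -, -, -, -, -, -, z1, -⟩ := hC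
  have mc : ∀ {a b v}, a * b * a⁻¹ = v → f a * f b * (f a)⁻¹ = f v := fun e => by rw [← e, map_mul, map_mul, map_inv]
  have cH : f c ∈ centralizer {f t0} := mem_centralizer_singleton_iff.mpr (mul_inv_eq_iff_eq_mul.mp (mc ct0))
  have k0 : f z' ∈ (klY f).V := .inr (.inl rfl)
  have fin : ∀ {ex : List G} {m N : ℕ}, (cl ((List.range 11).map (fun i => f (el msA [i])) ++ y1 :: y1⁻¹ :: y2 :: y2⁻¹ :: ex) ≠ ⊥ →
      Nonempty (cl ((List.range 11).map (fun i => f (el msA [i])) ++ y1 :: y1⁻¹ :: y2 :: y2⁻¹ :: ex) ≃*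
        alternatingGroup (Fin (m + 2)))) → (m + 2).factorial / 2 = 192 * N → ¬ 2 ∣ N →
      (∀ K : Subgroup G, (∀ u, f u ∈ K) → y1 ∈ K → y2 ∈ K → (∀ a ∈ ex, a ∈ K) → ∀ g ∈ centralizer {f t0},
        ∃ k ∈ K, k ∈ centralizer {f t0} ∧ k⁻¹ * (g * f z' * g⁻¹) * k ∈ (klY f).V) →
      Nonempty (G ≃* alternatingGroup (Fin (m + 2))) := fun {ex m N} e1 e2 e3 e4 => by
    have hK := mem_cl_low f (y1 :: y1⁻¹ :: y2 :: y2⁻¹ :: ex)
    obtain ⟨e⟩ := e1 fun e => h.loc.ne h.loc.z1 (mem_bot.mp (e ▸ hK z))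
    have k1 := mem_cl (gs := (List.range 11).map (fun i => f (el msA [i])) ++ y1 :: y1⁻¹ :: y2 :: y2⁻¹ :: ex)
      (x := y1) (by simp)
    have k2 := mem_cl (gs := (List.range 11).map (fun i => f (el msA [i])) ++ y1 :: y1⁻¹ :: y2 :: y2⁻¹ :: ex)
      (x := y2) (by simp)
    have := h.top hK k1 k2 (N := N) (by
      rw [← e2, ← Nat.card_fin (m + 2), ← nat_card_alternatingGroup]; exact (Nat.card_congr e.toEquiv).dvd) e3
      (e4 _ hK k1 k2 fun a ha => mem_cl (by simp [ha]))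
    exact ⟨(topEquiv.symm.trans (MulEquiv.subgroupCongr this.symm)).trans e⟩
  rcases ext_cases (H := H1 f) (c := f c) (klY f) (h.loc.ne z1) d2 d3 d0 (h.VS k0).1 d1 (by rw [← map_mul, cc, map_one])
    (h.normH cH) (mc cz) (by rw [mc cs, map_mul]) d4 (fun k hk e => by
      have := h.K1 k0 (h.loc.ne z1) k hk e
      refine ⟨?_, fun e1 => h.focal ⟨e1, this⟩⟩
      obtain ⟨j, rfl, hj⟩ := h.mS.mp this
      rw [← map_pow, (c1 j (Jc hj tJ.2.1)).1, map_one]) with hN | ⟨d, dH, dd, dy, dz, cd, d3, hF⟩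
  · exact .inl (fin (m := 6) (N := 105) (alt8 rfl (h.rels [])) (by decide) (by decide) fun K _ _ _ _ g hg =>
      ⟨1, one_mem _, one_mem _, by simpa using hN g (h.normH hg)⟩)
  refine .inr (fin (m := 7) (N := 945) (ex := [d]) (alt9 rfl ?_) (by decide) (by decide) fun K hK k1 k2 k3 g hg => ?_)
  swap
  · obtain ⟨k, e1, e2, e3⟩ := hF K (hK _) (hK _) (mul_mem k1 (inv_mem k2)) (k3 d (by simp)) g (h.normH hg)
    exact ⟨k, e1, e2.1, e3 _ k0⟩
  have wH := mul_mem dH (h.VS k0).1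
  have w0 : Commute (d * f z') (f t0) := mem_centralizer_singleton_iff.mp wH.1
  have wc : Commute (d * f z') (f c) := Commute.mul_left cd.symm (mul_inv_eq_iff_eq_mul.mp (mc cz)).symm
  have v1 := comm_conj (g := f x') w0.eq
  have v2 := comm_conj (g := f x') wc.eq
  rw [mc xt0] at v1
  rw [mc xc, map_mul] at v2
  have v3 : (f x' * (d * f z') * (f x')⁻¹) ^ 3 = 1 := by rw [conj_pow, dz]; simp
  have v4 : f x' * (d * f z') * (f x')⁻¹ = d * f z' := by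
    generalize hv : f x' * (d * f z') * (f x')⁻¹ = v at v1 v2 v3
    have v5 : v * f t0 = f t0 * v := by
      rw [mul_assoc, ← v1, ← mul_assoc, ← mul_assoc] at v2
      exact mul_right_cancel v2
    have v6 : v * f t1 = f t1 * v := by
      rcases h.normY v (mem_centralizer_singleton_iff.mpr v5) with e | e
      · exact mul_inv_eq_iff_eq_mul.mp e
      have : Commute (v * v) (f t1) := mul_inv_eq_iff_eq_mul.mp (by
        calc _ = v * (v * f t1 * v⁻¹) * v⁻¹ := by group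
          _ = _ := by rw [e, ← conj_mul, e, v5, mul_inv_cancel_right, mul_assoc, ← map_mul, c3, map_one, mul_one])
      have e2 := this.pow_left 2
      rwa [← pow_two, ← pow_mul, pow_succ, v3, one_mul] at e2
    rw [← hv]
    exact fix_of_three (by rw [← map_pow, x3, map_one]) (hv ▸ d3 v
      ⟨mem_centralizer_singleton_iff.mpr v5, mem_centralizer_singleton_iff.mpr v6⟩ v3 v1.symm)
  have b3 : ∀ {e : cl msA}, d * f e = f e * d → e * e = 1 → d * f e * d * f e = 1 := fun i ee => by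
    rw [i, mul_assoc _ d d, dd, mul_one, ← map_mul, ee, map_one]
  set gs := (List.range 11).map (fun i => f (el msA [i])) ++ [y1, y1⁻¹, y2, y2⁻¹, d]
  have g0 : ∀ l, (∀ a ∈ l, a < 11) → ev gs l = f (w l) := fun l hl => w_eq ▸ ev_low f 11 _ hl
  have g1 : ev gs [11] = y1 := mul_one _
  have g4 : ev gs [14] = y2⁻¹ := mul_one _
  have g5 : ev gs [15] = d := mul_one _
  rw [show rels16 = rels15 ++ [[15] ++ [15], [15] ++ ([11] ++ [14]) ++ [15] ++ ([11] ++ [14]),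
    [15] ++ [0, 5] ++ ([15] ++ [0, 5]) ++ ([15] ++ [0, 5]), [15] ++ [0, 2, 4, 7] ++ [15] ++ [0, 2, 4, 7],
    [15] ++ [0, 4] ++ [15] ++ [0, 4], [15] ++ [0, 0, 10] ++ [15] ++ [0, 0, 10],
    [4, 9, 0] ++ ([15] ++ [0, 5]) ++ [0, 6, 8] ++ ([0, 5] ++ [15])] from rfl]
  simp only [List.forall_mem_append, List.forall_mem_cons, ev_append, g1, g4, g5, g0 [0, 5] (by decide),
    g0 [0, 2, 4, 7] (by decide), g0 [0, 4] (by decide), g0 [0, 0, 10] (by decide), g0 [4, 9, 0] (by decide),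
    g0 [0, 6, 8] (by decide)]
  exact ⟨h.rels [d], dd, dy, by rw [← dz, pow_succ, pow_two], b3 cd.symm cc,
    b3 (mem_centralizer_singleton_iff.mp dH.1) c3, b3 (mem_centralizer_singleton_iff.mp dH.2) c4,
    by rw [xi, map_inv, v4, mul_assoc, (klY f).pp', dd], by simp⟩

end Cfg

theorem main1 (h : Loc z f) (I1 : IsConj (f z) (f s1)) (I : IsConj (f z) (f s2) ∨ ¬ IsConj (f z) (f t0)) :
    ConE G ∨ Nonempty (G ≃* alternatingGroup (Fin 8)) ∨ Nonempty (G ≃* alternatingGroup (Fin 9)) := by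
  obtain ⟨f', y, h', e1, e2, e3, c1, i1, a1⟩ := getY1 h I1
  rw [← e1, ← e2, ← e3] at I
  by_cases I2 : IsConj (f' z) (f' s2)
  · obtain ⟨y1, y2, H⟩ := getCfg h' I2 c1 i1 a1
    exact .inr H.main
  · exact .inl (caseE h' I2 (I.resolve_left I2) a1)

theorem exists_tri (h : Loc z f) : ∃ f' : cl msA →* G, Loc z f' ∧ (IsConj (f' z) (f' s1) ↔ IsConj (f z) (f s2)) ∧
    (IsConj (f' z) (f' s2) ↔ IsConj (f z) (f t0)) ∧ (IsConj (f' z) (f' t0) ↔ IsConj (f z) (f s1)) := by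
  obtain ⟨g1, g2, ⟨l1, g3⟩, ⟨l2, g4⟩, l3, g5⟩ := htri
  obtain ⟨σ, hσ, h'⟩ := exists_aut h rfl g1 g2
  have k : ∀ {l u v}, l * u * l⁻¹ = ev tri v → (IsConj (f.comp σ z) (f.comp σ (w v)) ↔ IsConj (f z) (f u)) := fun e => by
    rw [MonoidHom.comp_apply, MonoidHom.comp_apply, hσ, hσ, g2]
    exact ⟨fun e1 => e1.trans (h.isConj_of _ e).symm, fun e1 => e1.trans (h.isConj_of _ e)⟩
  exact ⟨_, h', k g3, k g4, k g5⟩

theorem main (h : Loc z f) {v : cl msA} (hv : IsConj (f z) (f v)) (vz : v ≠ z) (hQ : (v * (x * v * x⁻¹)) ^ 4 = 1) :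
    ConE G ∨ Nonempty (G ≃* alternatingGroup (Fin 8)) ∨ Nonempty (G ≃* alternatingGroup (Fin 9)) := by
  obtain ⟨vv, v1⟩ := h.sq_of_isConj hv
  have I : IsConj (f z) (f s1) ∨ IsConj (f z) (f s2) ∨ IsConj (f z) (f t0) := by
    rcases cls v vv with e | e | ⟨l, e⟩ | ⟨l, e⟩ | ⟨l, e⟩ | ⟨e, -⟩
    exacts [absurd e v1, absurd e vz, .inl (hv.trans (h.isConj_of l e).symm),
      .inr (.inl (hv.trans (h.isConj_of l e).symm)), .inr (.inr (hv.trans (h.isConj_of l e).symm)), absurd hQ e]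
  obtain ⟨f1, h1, a1, a2, a3⟩ := exists_tri h
  obtain ⟨f2, h2, b1, b2, b3⟩ := exists_tri h1
  have k0 := main1 h
  have k1 := main1 h1
  have k2 := main1 h2
  rw [b1, b2, b3, a1, a2, a3] at k2
  rw [a1, a2, a3] at k1
  generalize IsConj (f z) (f s1) = p1, IsConj (f z) (f s2) = p2, IsConj (f z) (f t0) = p3 at I k0 k1 k2
  by_cases q1 : p1 <;> by_cases q2 : p2 <;> by_cases q3 : p3
  exacts [k0 q1 (.inl q2), k0 q1 (.inl q2), k2 q3 (.inl q1), k0 q1 (.inr q3), k1 q2 (.inl q3), k1 q2 (.inr q1),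
    k2 q3 (.inr q2), absurd I (by simp [q1, q2, q3])]

end Cfsg.Agent.M12C.TA
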