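import Cfsg.Agent.M12C.FactsM
import Cfsg.Agent.M12C.Data12
import Cfsg.Agent.M12C.Gen2

/-! The case of the centralizer of type `M₁₂`. -/

set_option autoImplicit false
set_option linter.unusedSectionVars false

namespace Cfsg.Agent.M12C

open Subgroup Cfsg.Agent.Local Cfsg.Agent.Mat
open scoped Pointwise commutatorElement

variable {G : Type*} [Group G] [Finite G]

namespace TM

attribute [local irreducible] al cmul cinv

theorem core {f : cl msM →* G} (h : Loc z f) {y : G} (y3 : y ^ 3 = 1) (cy : f c * y * (f c)⁻¹ = y⁻¹)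
    (hy : List.Forall₂ (fun j i => y * f j * y⁻¹ = f i) js std) : Spor.IsoM12 G := by
  have k4 : ∀ r, r * u = u * r → y * f r * y⁻¹ = f (al js std W r) := fun r hr => by
    rw [al, ← act_ev f hy, hW.2 r hr]
  obtain ⟨s1, s2, s3, ⟨l1, s4⟩, ⟨l2, s5⟩, s6, s7⟩ := hstd
  obtain ⟨n1, n2, n3, n4, n5, n6, n7, n8, n9, n10⟩ := hn
  obtain ⟨-, -, cc, cu, uu, uz⟩ := F23
  have yz : y * f z * y⁻¹ = f u := by rw [k4 _ (h.cz u).symm, s1]
  have yu : y * f u * y⁻¹ = f z * f u := by rw [k4 _ rfl, s2, map_mul]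
  simp only [List.forall₂_cons] at hy
  obtain ⟨y1, y2, yn, -⟩ := hy
  have kl : Char.Kl (f z) (f u) := ⟨h.sq, by rw [← map_mul, uu, map_one], (h.comm u).symm⟩
  have nZ' : ¬ IsConj (f z) (f n) := h.not_isConj nZ.1 nZ.2.1 nZ.2.2
  have zu : IsConj (f z) (f u) := isConj_iff.mpr ⟨y, yz⟩
  have zV : ∀ v ∈ kl.V, v ≠ 1 → IsConj (f z) v := by
    rintro v (e | e | e | e) h1
    exacts [absurd e h1, e ▸ IsConj.refl _, e ▸ zu, e ▸ zu.trans (isConj_iff.mpr ⟨y, yu⟩)]
  have zt : IsConj (f z) (f t) := zu.trans ((h.isConj_of _ s5).trans (isConj_iff.mpr ⟨y, y2⟩).symm)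
  have nn : f n * f n = 1 := by rw [← map_mul, n3, map_one]
  have mV : ∀ {s}, s = 1 ∨ s = z ∨ s = u ∨ s = z * u → f s ∈ kl.V := by
    rintro s (rfl | rfl | rfl | rfl)
    exacts [.inl (map_one f), .inr (.inl rfl), .inr (.inr (.inl rfl)), .inr (.inr (.inr (map_mul _ _ _)))]
  set H := centralizer {f n}
  have mH : ∀ {s}, f s ∈ H ↔ s * n = n * s := mem_centralizer_singleton_iff.trans h.comm_iff
  have hS := h.sylow_sq (H := H) (fun s hs => (n1 s (mH.mp hs)).1) (nZ.1.imp fun r hr => ⟨mH.mpr hr.1, hr.2⟩)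
  have mS : ∀ {g}, g ∈ H ⊓ centralizer {f z} → ∃ s, f s = g ∧ s * n = n * s := fun hg => by
    obtain ⟨s, rfl⟩ := h.range _ (mem_centralizer_singleton_iff.mp hg.2)
    exact ⟨s, rfl, mH.mp hg.1⟩
  have hz : f z ∈ H := mH.mpr (h.cz n).symm
  have hyH : y ∈ H := mem_centralizer_singleton_iff.mpr (mul_inv_eq_iff_eq_mul.mp yn)
  have a1 : f n ∉ ⁅H, H⁆ := notMem_commutator (D := centralizer {f (w [2, 6])}) hS (fun a ha b hb e1 e2 => by
      obtain ⟨a, rfl, ha'⟩ := mS ha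
      obtain ⟨b, rfl, hb'⟩ := mS hb
      rw [mem_centralizer_singleton_iff, h.comm_iff] at e1 e2
      rw [← map_mul, mem_centralizer_singleton_iff, h.comm_iff]
      exact ((n1 a ha').2.2.2.2.2 b hb').1 e1 e2)
    ⟨mH.mpr rfl, mem_centralizer_singleton_iff.mpr (h.comm n)⟩
    (by rw [mem_centralizer_singleton_iff, h.comm_iff]; exact n2) fun g hg => mem_centralizer_singleton_iff.mp hg
  have a2 : ∀ s, s * n = n * s → (f s = 1 ∨ IsConj (f z) (f s)) → s * u = u * s := fun s hs e => by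
    rcases e with e | e
    · rw [← h.comm_iff, e]; simp
    · exact ((n1 s hs).2.2.1 (h.sq_of_isConj e).1).resolve_right fun ⟨l, hl⟩ => nZ' (e.trans (h.isConj_of l hl).symm)
  have a3 : ∀ s, s * n = n * s → (s * u = u * s ↔ (f s = 1 ∨ IsConj (f z) (f s)) ∨
      f s * f n = 1 ∨ IsConj (f z) (f s * f n)) := fun s hs => ⟨fun e => by
      rw [← map_mul]
      exact ((n1 s hs).2.2.2.2.1 e).imp (fun e => (em _).imp_right (zV _ (mV e))) fun e =>
        (em _).imp_right (zV _ (mV e)), fun e => e.elim (a2 s hs) fun e => by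
      rw [← map_mul] at e
      have := a2 _ (by rw [← mul_assoc, ← hs]) e
      rw [mul_assoc, n5, ← mul_assoc, ← mul_assoc] at this
      exact mul_right_cancel this⟩
  have a4 := focal_le (F := centralizer {f u}) hS fun a ha g hg hb => by
    obtain ⟨a, rfl, ha'⟩ := mS ha
    obtain ⟨b, e, hb⟩ := mS hb
    rw [← e, ← map_inv, ← map_mul, mem_centralizer_singleton_iff, h.comm_iff]
    refine ((n1 a ha').2.2.2.2.2 b hb).2 ?_
    have e1 : ∀ v, (g * v * g⁻¹ = 1 ∨ IsConj (f z) (g * v * g⁻¹)) ↔ (v = 1 ∨ IsConj (f z) v) := fun v =>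
      or_congr conj_eq_one_iff ⟨fun e => e.trans (isConj_iff.mpr ⟨g, rfl⟩).symm, fun e => e.trans (isConj_iff.mpr ⟨g, rfl⟩)⟩
    rw [a3 a ha', a3 b hb, e, e1, ← e1 (f a * f n), ← conj_mul, mem_centralizer_singleton_iff.mp hg,
      mul_inv_cancel_right]
  have hcH : f c ∈ H := mH.mpr n6
  have hH : ∀ g ∈ H, ∀ a ∈ H, g * a * g⁻¹ ∈ H := fun g hg a ha => mul_mem (mul_mem hg ha) (inv_mem hg)
  have m1 : f z ∈ ⁅H, H⁆ := by
    have := commutator_mem_commutator hyH (mH.mpr n5.symm)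
    rwa [commutatorElement_def, yu, mul_inv_cancel_right] at this
  have m2 : f u ∈ ⁅H, H⁆ := by
    have := mul_mem (commutator_mem_commutator hyH hz) m1
    rwa [commutatorElement_def, yz, inv_mul_cancel_right] at this
  rcases ext_cases (H := H) (c := f c) kl (h.ne h.z1) yz yu y3 hz hyH (by rw [← map_mul, cc, map_one]) (hH _ hcH)
    (by rw [h.comm, mul_inv_cancel_right]) (by rw [← map_inv, ← map_mul, ← map_mul, cu, map_mul]) cy (fun k hk e => by
      obtain ⟨s, rfl, hs⟩ := mS ⟨hk, mem_centralizer_singleton_iff.mpr e⟩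
      refine ⟨by rw [← map_pow, (n1 s hs).2.1, map_one], fun e1 => ?_⟩
      refine ((n1 s hs).2.2.2.2.1 (h.comm_iff.mp (mem_centralizer_singleton_iff.mp
        (a4 ⟨e1, hk, mem_centralizer_singleton_iff.mpr e⟩)))).elim mV fun e2 => absurd ?_ a1
      refine (Subgroup.mul_mem_cancel_left _ e1).mp ?_
      rw [← map_mul]
      rcases mV e2 with e | e | e | e <;> rw [e]
      exacts [one_mem _, m1, m2, mul_mem m1 m2]) with hN | ⟨d, dH, dd, dy, dz, cd, d3, hF⟩
  · exfalso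
    have b1 : ∀ g ∈ H, ∀ v ∈ kl.V, g * v * g⁻¹ ∈ kl.V := fun g hg v =>
      conj_mem_of_mem_normalizer (kl.mem_norm (hN g (hH g hg)) (by
        have := hN (g * y) (hH _ (mul_mem hg hyH))
        rwa [show g * y * f z * (g * y)⁻¹ = g * (y * f z * y⁻¹) * g⁻¹ by group, yz] at this))
    have b2 : ∀ v ∈ H, v * v = 1 → v ≠ 1 → ∃ g ∈ H, ∃ s, g * f s * g⁻¹ = v ∧
        ((s = z ∨ s = u ∨ s = z * u) ∨ ∃ l, l * n * l⁻¹ = s) := fun v hv e e1 => by
      obtain ⟨g, hg, e2⟩ := exists_conj_mem_of_odd hS.3 hv e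
      obtain ⟨s, e3, hs⟩ := mS e2
      refine ⟨g, hg, s, by rw [e3]; group, (n1 s hs).2.2.2.1 (h.inj ?_) fun e =>
        CIT.inv_conj_ne_one e1 (by rw [← e3, e, map_one])⟩
      rw [map_mul, e3, map_one]
      simpa using CIT.conj_sq (g := g⁻¹) e
    have b3 : ∀ v ∈ H, IsConj (f z) v → v ∈ kl.V := fun v hv e => by
      obtain ⟨g, rfl⟩ := isConj_iff.mp e
      obtain ⟨g', hg, s, e1, e2 | ⟨l, e2⟩⟩ := b2 _ hv (CIT.conj_sq h.sq) (CIT.conj_ne_one (h.ne h.z1))
      · exact e1 ▸ b1 g' hg _ (mV (.inr e2))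
      · exact absurd (e.trans ((h.isConj_of l e2).trans (isConj_iff.mpr ⟨g', e1⟩)).symm) nZ'
    have b4 : ∀ v, IsConj (f z) v → ∃ p ∈ kl.V, p ≠ 1 ∧ v * p = p * v := fun v hv => by
      obtain ⟨g, rfl⟩ := isConj_iff.mp hv
      obtain ⟨a, e1, e2, e3, e4⟩ := exists_comm_inv nn (CIT.conj_sq (g := g) h.sq) fun e => nZ' (hv.trans e)
      obtain ⟨g', hg, s, rfl, e5 | ⟨l, rfl⟩⟩ := b2 a (mem_centralizer_singleton_iff.mpr e3) e2 e1
      · exact ⟨_, b1 g' hg _ (mV (.inr e5)), e1, e4.symm⟩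
      · refine ⟨_, b1 g' hg _ (.inr (.inl rfl)), CIT.conj_ne_one (h.ne h.z1), ?_⟩
        rw [map_mul, map_mul, map_inv] at e4
        have e6 := comm_conj (g := g' * f l) (kl.mem_cent.mp (kl.le_cent (b3 _
          (mem_centralizer_singleton_iff.mpr (comm_conj' (comm_conj' e4.symm)))
          (hv.trans (isConj_iff.mpr ⟨(g' * f l)⁻¹, by group⟩))))).1
        rw [mul_assoc g' (f l) (f z), h.comm l] at e6
        simpa [mul_assoc] using e6
    obtain ⟨p, e1, e2, e3⟩ := b4 ((y * f x)⁻¹ * f (w [10]) * (y * f x))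
      ((zt.trans (h.isConj_of _ s4)).trans (isConj_iff.mpr ⟨(y * f x)⁻¹, by group⟩))
    obtain ⟨p, hp, rfl⟩ : ∃ q ∈ [z, u, z * u], f q = p := by
      rcases e1 with e | e | e | e
      exacts [absurd e e2, ⟨z, by simp, e.symm⟩, ⟨u, by simp, e.symm⟩, ⟨z * u, by simp, by rw [e, map_mul]⟩]
    have e4 := (comm_conj (g := y * f x) e3).symm
    rw [show y * f x * f p * (y * f x)⁻¹ = y * f (x * p * x⁻¹) * y⁻¹ by rw [map_mul, map_mul, map_inv]; group,
      k4 _ (s3 p hp).1, show y * f x * ((y * f x)⁻¹ * f (w [10]) * (y * f x)) * (y * f x)⁻¹ = f (w [10]) by group,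
      h.comm_iff] at e4
    exact (s3 p hp).2 e4
  have c1 : d * f z * f n = f n * (d * f z) := mem_centralizer_singleton_iff.mp (mul_mem dH hz)
  have c2 : d * f z * f c = f c * (d * f z) := by rw [mul_assoc, ← h.comm, ← mul_assoc, ← cd, mul_assoc]
  have c3 : f x * (d * f z) * (f x)⁻¹ = d * f z := by
    refine fix_of_three (by rw [← map_pow, n9, map_one]) (d3 _ (mem_centralizer_singleton_iff.mpr ?_)
      (by rw [conj_pow, dz]; simp) ?_)
    · have e : (f x)⁻¹ * f n * f x = (f n * f c)⁻¹ := by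
        rw [← map_mul, ← map_inv, ← map_inv, ← map_mul, ← map_mul, eq_inv_of_mul_eq_one_right n8]
      have := comm_conj (g := f x) (((show Commute _ _ from c1).mul_right c2).inv_right).eq
      rwa [← e, show f x * ((f x)⁻¹ * f n * f x) * (f x)⁻¹ = f n by group] at this
    · have := comm_conj (g := f x) c1
      rw [← map_inv, ← map_mul, ← map_mul, n7, map_inv] at this
      exact this.symm
  let gs := (List.range 11).map (fun i => f (el msM [i])) ++ [y, y⁻¹, d]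
  have g0 : ∀ l, (∀ a ∈ l, a < 11) → ev gs l = f (w l) := fun l hl => w_eq ▸ ev_low f 11 _ hl
  have g1 : ev gs [11] = y := mul_one y
  have g2 : ev gs [12] = y⁻¹ := mul_one _
  have g3 : ev gs [13] = d := mul_one _
  have hr : ∀ r ∈ rels14, ev gs r = 1 := by
    rw [show rels14 = relsM ++ [[11] ++ [12], [12] ++ [11], [11] ++ [11] ++ [11], [11] ++ [0, 2, 4] ++ [11] ++ [0, 2, 4],
      [11] ++ [2, 4, 6] ++ [12] ++ [2, 4, 6], [11] ++ [5] ++ [12] ++ [9, 0, 4, 10], [11] ++ [9, 10] ++ [12] ++ [0, 2, 4, 6],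
      [13] ++ [13], [13] ++ [11] ++ [13] ++ [11], [13] ++ [0, 0] ++ [13] ++ [0, 0] ++ [13] ++ [0, 0],
      [13] ++ [0, 2, 4] ++ [13] ++ [0, 2, 4], [13] ++ [2, 4, 6] ++ [13] ++ [2, 4, 6],
      [8] ++ ([13] ++ [0, 0]) ++ [9] ++ ([0, 0] ++ [13])] from rfl]
    simp only [List.forall_mem_append, List.forall_mem_cons, ev_append, g1, g2, g3, g0 [0, 2, 4] (by decide),
      g0 [2, 4, 6] (by decide), g0 [5] (by decide), g0 [9, 0, 4, 10] (by decide), g0 [9, 10] (by decide),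
      g0 [0, 2, 4, 6] (by decide), g0 [0, 0] (by decide), g0 [8] (by decide), g0 [9] (by decide), y1, y2, yn]
    refine ⟨fun r hr => ?_, by simp, by simp, by rw [← y3, pow_succ, pow_two], ?_, nn, by rw [← map_mul, s6, map_one],
      by rw [← map_mul, s7, map_one], dd, dy, by rw [← dz, pow_succ, pow_two]; group, ?_, ?_, ?_, by simp⟩
    · rw [g0 r (by revert r; decide), w_eq, show el msM r = 1 from Subtype.ext (relsM_ms r hr), map_one]
    · have e : (f c)⁻¹ = f c := inv_eq_of_mul_eq_one_right (by rw [← map_mul, cc, map_one])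
      rw [← mul_inv_cancel y, ← cy, e]; group
    · rw [← cd, mul_assoc (f c), dd, mul_one, ← map_mul, cc, map_one]
    · rw [mem_centralizer_singleton_iff.mp dH, mul_assoc (f n), dd, mul_one, nn]
    · rw [n10, map_inv, c3, mul_assoc, kl.pp' d, dd]
  obtain ⟨F, hF'⟩ := exists_hom_words (ms := ms14) (gs := gs) rfl (fun l hl => pres14 l hl)
    (by rw [cl14_eq, card_cl12]) rels14_ms hr
  have hK : ∀ v, f v ∈ F.range := fun v => range_eq_cl hF' ▸ mem_cl_low f [y, y⁻¹, d] v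
  have yK : y ∈ F.range := ⟨_, (hF' [11]).trans g1⟩
  have hC : ∀ a, a * f z = f z * a → a ∈ F.range := fun a ha => by
    obtain ⟨v, rfl⟩ := h.range a ha
    exact hK v
  refine isoM12 F (eq_top_of_two_classes h.sq (h.ne h.z1) nn nZ' (fun a ha => hC a (mem_centralizer_singleton_iff.mp ha))
    (fun g hg => ?_) (h.relIndex_odd hK (N := 495) ?_ (by norm_num)) fun v vv v1 hv => ?_)
    (cardM ▸ card_dvd_of_injective f h.inj)
  · obtain ⟨k, hk, -, e⟩ := hF F.range (hK z) (hK u) yK ⟨_, (hF' [13]).trans g3⟩ g (hH g hg)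
    simpa using mul_mem hk (mem_of_norm (H := ⊤) (g := k⁻¹ * g) kl (h.ne h.z1) yz yu yK trivial trivial (fun a _ => hC a)
      (by simpa [mul_assoc] using e _ (.inr (.inl rfl))))
  · rw [cardM]
    refine (card_dvd_of_surjective _ F.rangeRestrict_surjective).trans ?_
    rw [cl14_eq, card_cl12]
  · obtain ⟨v, rfl⟩ := h.range v hv
    rcases cls v (h.inj (by rw [map_mul, vv, map_one])) with rfl | rfl | ⟨l, rfl⟩ | ⟨l, rfl⟩ | ⟨-, l, rfl⟩
    · exact absurd (map_one f) v1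
    · exact ⟨1, one_mem _, .inl (by simp)⟩
    · exact ⟨f l * y, mul_mem (hK l) yK, .inl (by rw [map_mul, map_mul, map_inv, ← yz]; group)⟩
    · exact ⟨f l, hK l, .inr (by rw [map_mul, map_mul, map_inv])⟩
    · refine ⟨f l * y⁻¹ * f l2 * y, mul_mem (mul_mem (mul_mem (hK l) (inv_mem yK)) (hK l2)) yK, .inl ?_⟩
      calc _ = f l * (y⁻¹ * (f l2 * (y * f z * y⁻¹) * (f l2)⁻¹) * y) * (f l)⁻¹ := by group
        _ = _ := by
          rw [yz, ← map_inv f l2, ← map_mul, ← map_mul, s5, ← y2, map_mul, map_mul, map_inv]; group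

theorem main {f : cl msM →* G} (h : Loc z f) {v : cl msM} (hv : IsConj (f z) (f v)) (vz : v ≠ z)
    (hQ : (v * (x * v * x⁻¹)) ^ 4 = 1) : ConE G ∨ Spor.IsoM12 G := by
  have nZ' : ¬ IsConj (f z) (f n) := h.not_isConj nZ.1 nZ.2.1 nZ.2.2
  obtain ⟨vv, v1⟩ := h.sq_of_isConj hv
  have zu : IsConj (f z) (f u) := by
    rcases cls v vv with e | e | ⟨l, e⟩ | ⟨l, e⟩ | ⟨e, -⟩
    exacts [absurd e v1, absurd e vz, hv.trans (h.isConj_of l e).symm,
      absurd (hv.trans (h.isConj_of l e).symm) nZ', absurd hQ e]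
  obtain ⟨f2, f3, cc, cu, uu, uz⟩ := F23
  obtain ⟨y, y3, cy, yz, yu⟩ := h.exists_y zu uz F1 f2 f3 cc cu
  obtain ⟨i1, i2, i3, hi, k4⟩ := h.pin y3 cy yz yu uu cu W _ _ _ hW.1 hW.2 P hP
  rcases hi with ⟨e1, l, e2⟩ | ⟨r, -, e1, gs, e2, e3⟩
  · refine .inl (h.conE' cardM eData F4 (fun v hv => ?_) (fun e he => ⟨_, (e1 e he).2, k4 e (e1 e he).1⟩) yz)
    obtain ⟨vv, v1⟩ := h.sq_of_isConj hv
    rcases cls v vv with e | rfl | ⟨l, rfl⟩ | ⟨l, e⟩ | ⟨-, l', e⟩
    · exact absurd e v1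
    · exact eData.1.2.2.2.1
    · exact eData.2.1 l u (by simp [EL])
    · exact absurd (hv.trans (h.isConj_of l e).symm) nZ'
    · exact absurd ((hv.trans (h.isConj_of l' e).symm).trans ((h.isConj_of l e2).trans
        (isConj_iff.mpr ⟨y, k4 n hn.2.2.2.2.1⟩).symm)) nZ'
  · obtain ⟨g1, g2, g3, g4⟩ := hth gs e2
    obtain ⟨σ, hσ⟩ := exists_hom_words (ms := msM) (gs := gs) g1.symm (fun l hl => presM l (hl.trans g1))
      cardM.ge relsM_ms g2
    replace hσ : ∀ l, σ (w l) = ev gs l := w_eq ▸ hσ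
    have σz : σ z = z := (hσ _).trans g3
    have σc : σ c = c := (hσ _).trans g4
    have k5 : ∀ p ∈ [([5], [2, 6, 9, 10]), ([9, 10], [0, 2, 4, 6]), ([2, 4, 6], [2, 4, 6])],
        f r * y * (f r)⁻¹ * f.comp σ (w p.1) * (f r * y * (f r)⁻¹)⁻¹ = f.comp σ (w p.2) := fun p hp => by
      show _ * f (σ _) * _ = f (σ _)
      rw [hσ, hσ, ← (e3 p hp).2, map_mul, map_mul,
        ← k4 _ (e3 p hp).1]
      simp only [map_mul, map_inv]
      group
    refine .inr (core (h.comp (inj_of_ne inj (σz.symm ▸ h.z1)) σz) (y := f r * y * (f r)⁻¹) (by rw [conj_pow, y3]; simp) ?_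
      (.cons (k5 (_, _) (by simp)) (.cons (k5 (_, _) (by simp)) (.cons (k5 (_, _) (by simp)) .nil))))
    show f (σ c) * _ * (f (σ c))⁻¹ = _
    rw [σc, conj_inv, ← cy]
    calc _ = f c * f r * y * (f c * f r)⁻¹ := by group
      _ = _ := by rw [← h.comm_iff.mpr e1]; group

end TM

end Cfsg.Agent.M12C
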