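import Cfsg.Agent.M12C.Frame
import Cfsg.Agent.M12C.TypeM
import Cfsg.Agent.M12C.TypeA3

/-! Groups with an involution centralizer of shape `2^{1+4}.S₃`. -/

set_option autoImplicit false
set_option linter.unusedSectionVars false

namespace Cfsg.Agent.M12C

open Subgroup Cfsg.Agent.Local Cfsg.Agent.Mat
open scoped Pointwise commutatorElement

variable {G : Type*} [Group G] [Finite G]

theorem rot {a x t : G} (x3 : x ^ 3 = 1) (tx : t * x * t⁻¹ = x⁻¹) {j : ℕ} (h : x ^ j * a * (x ^ j)⁻¹ = (t * a * t⁻¹)⁻¹) :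
    ∃ i : ℕ, t * (x ^ i * a * (x ^ i)⁻¹) * t⁻¹ * (x * (x ^ i * a * (x ^ i)⁻¹) * x⁻¹) = 1 := by
  refine ⟨2 * j + 1, ?_⟩
  rw [← conj_mul, ← conj_mul, ← conj_inv, ← conj_pow, tx, ← inv_inv (t * a * t⁻¹), ← h]
  calc _ = x ^ j * (x ^ (2 * j + 1))⁻¹ * a⁻¹ * (x ^ 3) ^ (j + 1) * (x ^ j)⁻¹ * x⁻¹ * (x ^ j)⁻¹ * x ^ j * x * x ^ j * a *
      (x ^ (2 * j + 1))⁻¹ * x⁻¹ := by group
    _ = x ^ j * (x ^ (2 * j + 1))⁻¹ * (x ^ (2 * j + 1))⁻¹ * x⁻¹ := by rw [x3]; group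
    _ = ((x ^ 3) ^ (j + 1))⁻¹ := by group
    _ = 1 := by rw [x3]; group

theorem loc_of {ms : List (CP 8)} {z : cl ms} {f : cl ms →* G} {s : G} (hM : Nat.card (cl ms) = 192)
    (hL : Nat.card (centralizer {s}) = 192) (hz : f z = s) (hi : Function.Injective f)
    (zc : (∀ v, v * z = z * v) ∧ z * z = 1 ∧ z ≠ 1) : Loc z f := by
  have h1 : f.range = centralizer {s} := eq_of_le_of_card_ge (by
    rintro _ ⟨u, rfl⟩
    rw [mem_centralizer_singleton_iff, ← hz, ← map_mul, zc.1, map_mul])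
    (by rw [hL, ← Nat.card_congr (f.ofInjective hi).toEquiv, hM])
  exact ⟨hi, fun g hg => (h1.ge (mem_centralizer_singleton_iff.mpr (hz ▸ hg)) : g ∈ f.range), zc.1, zc.2.1, zc.2.2⟩

theorem Fr.typ {s x t v : G} {Q : Subgroup G} (h : Fr s Q x) (tt : t * t = 1) (ts : t * s * t⁻¹ = s)
    (tQ : ∀ q ∈ Q, t * q * t⁻¹ ∈ Q) (tx : t * x * t⁻¹ = x⁻¹) (hL : Nat.card (centralizer {s}) = 192) (vQ : v ∈ Q)
    (hv : IsConj s v) (vs : v ≠ s) : ConE G ∨ Nonempty (G ≃* alternatingGroup (Fin 8)) ∨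
      Nonempty (G ≃* alternatingGroup (Fin 9)) ∨ Spor.IsoM12 G := by
  obtain ⟨a, k, ha, hk, e1, e2⟩ := h.exists_pq
  have ti := inv_eq_of_mul_eq_one_right tt
  have t1 : t * (x * (t * x)) = 1 := by rw [← inv_mul_cancel x, ← tx, ti]; group
  have k1 : ∀ j : ℕ, k * (x ^ j * a * (x ^ j)⁻¹) = x ^ j * a * (x ^ j)⁻¹ * k ∧
      k * (x * (x ^ j * a * (x ^ j)⁻¹) * x⁻¹) = x * (x ^ j * a * (x ^ j)⁻¹) * x⁻¹ * k := fun j => by
    induction j with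
    | zero => simpa using ⟨e1, e2⟩
    | succ j ih =>
      rw [show x ^ (j + 1) * a * (x ^ (j + 1))⁻¹ = x * (x ^ j * a * (x ^ j)⁻¹) * x⁻¹ by group]
      exact ⟨ih.2, by rw [(h.rel_pq (h.pow_pq ha j)).2]; exact (Commute.mul_right ih.1 ih.2).eq⟩
  have k2 : ∀ i j : ℕ, x ^ i * k * (x ^ i)⁻¹ * (x ^ j * a * (x ^ j)⁻¹) = x ^ j * a * (x ^ j)⁻¹ * (x ^ i * k * (x ^ i)⁻¹) :=
    fun i j => by
      have := comm_conj (g := x ^ i) (k1 (2 * i + j)).1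
      rwa [show x ^ i * (x ^ (2 * i + j) * a * (x ^ (2 * i + j))⁻¹) * (x ^ i)⁻¹ =
        (x ^ 3) ^ i * (x ^ j * a * (x ^ j)⁻¹) * ((x ^ 3) ^ i)⁻¹ by group, h.x3, one_pow, one_mul, inv_one, mul_one] at this
  have k3 : ∀ i j : ℕ, x ^ i * k * (x ^ i)⁻¹ * (x * (x ^ j * a * (x ^ j)⁻¹) * x⁻¹) =
      x * (x ^ j * a * (x ^ j)⁻¹) * x⁻¹ * (x ^ i * k * (x ^ i)⁻¹) := fun i j => by
    simpa [pow_succ', mul_assoc] using k2 i (j + 1)
  have hq := h.pow4 (mul_mem vQ (h.xQ v vQ))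
  obtain ⟨j, hj | hj⟩ := (h.model ha hk e1 e2).2 _ (h.inv_pq ha tQ ts tx)
  · obtain ⟨i, hi⟩ := rot h.x3 tx hj
    have ha' := h.pow_pq ha i
    obtain ⟨j', hj' | hj'⟩ := (h.model ha hk e1 e2).2 _ (h.inv_pq hk tQ ts tx)
    · have e3 := (h.rel_pq (h.pow_pq ha j')).1
      have e4 : ∀ m : ℕ, Commute (t * k * t⁻¹)⁻¹ (x ^ m * a * (x ^ m)⁻¹) := fun m => by
        have := (show Commute _ _ from comm_conj (g := t) (k1 (2 * m + j)).1).inv_inv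
        rwa [← conj_mul, ← conj_mul, ← conj_inv, ← conj_pow, tx, ← inv_inv (t * a * t⁻¹), ← hj,
          show (x⁻¹ ^ (2 * m + j) * (x ^ j * a * (x ^ j)⁻¹)⁻¹ * (x⁻¹ ^ (2 * m + j))⁻¹)⁻¹ =
            ((x ^ 3) ^ m)⁻¹ * (x ^ m * a * (x ^ m)⁻¹) * (x ^ 3) ^ m by group, h.x3, one_pow, inv_one, one_mul,
          mul_one] at this
      have e5 := (e4 (j' + 1)).eq
      rw [← hj', show x ^ (j' + 1) * a * (x ^ (j' + 1))⁻¹ = x * (x ^ j' * a * (x ^ j')⁻¹) * x⁻¹ by group, e3] at e5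
      exact absurd (mul_eq_left.mp e5) h.s1
    obtain ⟨i', hi'⟩ := rot h.x3 tx hj'
    have hr := h.rels ha' (h.pow_pq hk i') (k2 i' i) (k3 i' i) [t]
    generalize x ^ i * a * (x ^ i)⁻¹ = a, x ^ i' * k * (x ^ i')⁻¹ = k at *
    obtain ⟨f, hf⟩ := exists_hom_words (ms := msM) (gs := [a, a⁻¹, x * a * x⁻¹, (x * a * x⁻¹)⁻¹, k, k⁻¹, x * k * x⁻¹,
      (x * k * x⁻¹)⁻¹, x, x⁻¹, t]) rfl (fun l hl => presM l hl) cardM.ge relsM_ms (by
        rw [show relsM = relsQ ++ [[10, 10], [10, 8, 10, 8], [10, 0, 10, 2], [10, 4, 10, 6]] from rfl,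
          List.forall_mem_append]
        rw [ti] at hi hi'
        exact ⟨hr, by simpa [ev, mul_assoc] using And.intro tt (And.intro t1 (And.intro hi hi'))⟩)
    replace hf : ∀ w, f (el msM w) = _ := hf
    rw [← TM.w_eq] at hf
    have hz : f TM.z = s := (hf _).trans (by simpa [ev] using ha'.2)
    have H := loc_of cardM hL hz (inj_of_ne TM.inj (hz.symm ▸ h.s1)) TM.zc
    obtain ⟨u, rfl⟩ := H.range v (hz ▸ h.cs v vQ)
    refine (TM.main H (hz ▸ hv) (fun e => vs ((congrArg f e).trans hz)) (H.inj ?_)).imp_right fun e => .inr (.inr e)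
    rw [map_pow, map_mul, map_mul, map_mul, map_inv, show f TM.x = x from (hf _).trans (mul_one x), hq, map_one]
  · have hr := h.rels ha (h.pow_pq hk j) (by simpa using k2 j 0) (by simpa using k3 j 0) [t]
    generalize x ^ j * k * (x ^ j)⁻¹ = k at *
    obtain ⟨f, hf⟩ := exists_hom_words (ms := msA) (gs := [a, a⁻¹, x * a * x⁻¹, (x * a * x⁻¹)⁻¹, k, k⁻¹, x * k * x⁻¹,
      (x * k * x⁻¹)⁻¹, x, x⁻¹, t]) rfl (fun l hl => presA l hl) cardA.ge relsA_ms (by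
        rw [show relsA = relsQ ++ [[10, 10], [10, 8, 10, 8], [10, 0, 10, 4]] from rfl, List.forall_mem_append]
        have := mul_eq_one_iff_eq_inv'.mpr hj
        rw [ti] at this
        exact ⟨hr, by simpa [ev, mul_assoc] using And.intro tt (And.intro t1 this)⟩)
    replace hf : ∀ w, f (el msA w) = _ := hf
    rw [← TA.w_eq] at hf
    have hz : f TA.z = s := (hf _).trans (by simpa [ev] using ha.2)
    have H := loc_of cardA hL hz (inj_of_ne TA.inj (hz.symm ▸ h.s1)) TA.zc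
    obtain ⟨u, rfl⟩ := H.range v (hz ▸ h.cs v vQ)
    refine (TA.main H (hz ▸ hv) (fun e => vs ((congrArg f e).trans hz)) (H.inj ?_)).imp_right (Or.imp_right .inl)
    rw [map_pow, map_mul, map_mul, map_mul, map_inv, show f TA.x = x from (hf _).trans (mul_one x), hq, map_one]

theorem Fr.exists_out {s x g : G} {Q : Subgroup G} (h : Fr s Q x) (hg : g * s * g⁻¹ ∈ Q) (gs : g * s * g⁻¹ ≠ s) :
    ∃ t, t * t = 1 ∧ t * s = s * t ∧ t ∉ Q := by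
  by_contra! e
  obtain ⟨a, k, ha, hk, e1, e2⟩ := h.exists_pq
  have h1 := comm_conj' (h.cs _ hg).symm
  have h2 : g⁻¹ * s * g * (g⁻¹ * s * g) = 1 := by simpa using CIT.conj_sq (g := g⁻¹) h.ss
  obtain ⟨p, -, p1, p2, q, -, q1, q2, e3⟩ := (h.model ha hk e1 e2).1 _ (e _ h2 h1) h2
  have h3 : ∀ {p}, p * p = 1 → p * (g⁻¹ * s * g) = g⁻¹ * s * g * p → g * p * g⁻¹ ∈ Q := fun e1 e2 =>
    e _ (CIT.conj_sq e1) (by simpa [mul_assoc] using comm_conj (g := g) e2)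
  have h4 : g * p * g⁻¹ * (g * q * g⁻¹) = g * q * g⁻¹ * (g * p * g⁻¹) * (g * s * g⁻¹) := by
    rw [conj_mul, conj_mul, conj_mul, e3]
  rcases h.com _ (h3 p1 p2) _ (h3 q1 q2) with e4 | e4 <;> rw [e4] at h4
  · exact CIT.conj_ne_one h.s1 (mul_eq_left.mp h4.symm)
  · exact gs (mul_left_cancel h4).symm

end Cfsg.Agent.M12C
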