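import Cfsg.Agent.M12C.FactsA
import Cfsg.Agent.M12C.DataA
import Cfsg.Agent.M12C.Gen2

/-! The case of the centralizer of type `A₈`: the subgroup `A₈`. -/

set_option autoImplicit false
set_option linter.unusedSectionVars false

namespace Cfsg.Agent.M12C.TA

open Subgroup Cfsg.Agent.Local Cfsg.Agent.Mat
open scoped Pointwise commutatorElement

variable {G : Type*} [Group G] [Finite G] {f : cl msA →* G}

attribute [local irreducible] al cmul cinv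

theorem exists_aut {gs : List (cl msA)} (h : Loc z f) (g1 : gs.length = 11) (g2 : ∀ r ∈ relsA, ev gs r = 1)
    (g3 : ev gs [0, 0] = z) : ∃ σ : cl msA →* cl msA, (∀ l, σ (w l) = ev gs l) ∧ Loc z (f.comp σ) := by
  obtain ⟨σ, hσ⟩ := exists_hom_words (ms := msA) (gs := gs) g1.symm (fun l hl => presA l (hl.trans g1))
    cardA.ge relsA_ms g2
  replace hσ : ∀ l, σ (w l) = ev gs l := w_eq ▸ hσ
  have σz : σ z = z := (hσ _).trans g3
  exact ⟨σ, hσ, h.comp (inj_of_ne inj (σz.symm ▸ h.z1)) σz⟩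

theorem conj_y {r c y : G} (y3 : y ^ 3 = 1) (cy : c * y * c⁻¹ = y⁻¹) (e : r * c = c * r) :
    (r * y * r⁻¹) ^ 3 = 1 ∧ c * (r * y * r⁻¹) * c⁻¹ = (r * y * r⁻¹)⁻¹ := by
  refine ⟨by rw [conj_pow, y3]; simp, ?_⟩
  rw [conj_inv, ← cy]
  calc _ = c * r * y * (c * r)⁻¹ := by group
    _ = _ := by rw [← e]; group

theorem getY1 (h : Loc z f) (I1 : IsConj (f z) (f s1)) : ∃ (f' : cl msA →* G) (y : G), Loc z f' ∧ f' z = f z ∧
    f' s2 = f s2 ∧ f' t0 = f t0 ∧ y ^ 3 = 1 ∧ f' e2 * y * (f' e2)⁻¹ = y⁻¹ ∧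
    ∀ r, r * s1 = s1 * r → y * f' r * y⁻¹ = f' (A1 r) := by
  obtain ⟨f2, f3, cc, cu, uu, uz⟩ := F23 (s1, e2) (by simp)
  obtain ⟨y, y3, cy, yz, yu⟩ := h.exists_y I1 uz F1 f2 f3 cc cu
  obtain ⟨i1, i2, i3, ⟨r, -, e1, gs, e2, e3⟩, k4⟩ := h.pin y3 cy yz yu uu cu W _ _ _ hW.1 hW.2.1 P1 hP1
  obtain ⟨g1, g2, g3, g4, g5, g6⟩ := hth gs e2
  obtain ⟨σ, hσ, h'⟩ := exists_aut h g1 g2 g3
  have k5 : ∀ p ∈ [([3], [0, 7, 10]), ([10], [6, 10, 7]), ([0, 5], [2, 10, 2])],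
      f r * y * (f r)⁻¹ * f.comp σ (w p.1) * (f r * y * (f r)⁻¹)⁻¹ = f.comp σ (w p.2) := fun p hp => by
    show _ * f (σ _) * _ = f (σ _)
    rw [hσ, hσ, ← (e3 p hp).2, map_mul, map_mul, ← k4 _ (e3 p hp).1]
    simp only [map_mul, map_inv]
    group
  obtain ⟨k6, k7⟩ := conj_y y3 cy (h.comm_iff.mpr e1)
  refine ⟨f.comp σ, _, h', congrArg f ((hσ _).trans g3), congrArg f ((hσ _).trans g5), congrArg f ((hσ _).trans g6),
    k6, by rwa [MonoidHom.comp_apply, hσ, g4], fun r hr => ?_⟩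
  rw [A1, al, ← act_ev _ (.cons (k5 ([3], _) (by simp)) (.cons (k5 ([10], _) (by simp))
    (.cons (k5 ([0, 5], _) (by simp)) .nil))), hW.2.1 r hr]

theorem getY2 (h : Loc z f) (I2 : IsConj (f z) (f s2)) : ∃ y : G, y ^ 3 = 1 ∧ f e1 * y * (f e1)⁻¹ = y⁻¹ ∧
    ((∀ r, r * s2 = s2 * r → y * f r * y⁻¹ = f (A2 r)) ∨ ∀ r, r * s2 = s2 * r → y * f r * y⁻¹ = f (A3 r)) := by
  obtain ⟨f2, f3, cc, cu, uu, uz⟩ := F23 (s2, e1) (by simp)
  obtain ⟨y, y3, cy, yz, yu⟩ := h.exists_y I2 uz F1 f2 f3 cc cu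
  obtain ⟨i1, i2, i3, ⟨r, -, e1, e2, is, e3, e4⟩, k4⟩ := h.pin y3 cy yz yu uu cu W _ _ _ hW.2.2.1 hW.2.2.2 P2 hP2
  obtain ⟨k6, k7⟩ := conj_y y3 cy (h.comm_iff.mpr e1)
  have k5 : ∀ v, v * s2 = s2 * v → f r * y * (f r)⁻¹ * f v * (f r * y * (f r)⁻¹)⁻¹ = f (al js2 is W v) := fun v hv => by
    rw [al, ← act_ev f (js := js2) (y := f r * y * (f r)⁻¹), hW.2.2.2 v hv]
    rw [← e4, List.forall₂_map_right_iff, List.forall₂_same]
    intro j hj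
    rw [map_mul, map_mul, ← k4 _ (e2 j hj)]
    simp only [map_mul, map_inv]
    group
  refine ⟨_, k6, k7, ?_⟩
  simp only [List.mem_cons, List.not_mem_nil, or_false] at e3
  rcases e3 with rfl | rfl
  exacts [.inl k5, .inr k5]

theorem caseE (h : Loc z f) (I2 : ¬ IsConj (f z) (f s2)) (I3 : ¬ IsConj (f z) (f t0)) {y : G}
    (a1 : ∀ r, r * s1 = s1 * r → y * f r * y⁻¹ = f (A1 r)) : ConE G := by
  obtain ⟨b1, -, -, -, -, b2, b3, b4, ⟨l, b5⟩, -, -, -, -, -, -, -, b6, b7, -⟩ := hA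
  refine h.conE' cardA eData1 F4 (fun v hv => ?_) (fun e he => ⟨_, (b4 e he).2, a1 e (b4 e he).1⟩)
    (by rw [a1 _ (h.cz _).symm, b1])
  obtain ⟨vv, v1⟩ := h.sq_of_isConj hv
  rcases cls v vv with e | rfl | ⟨l, rfl⟩ | ⟨l, e⟩ | ⟨l, e⟩ | ⟨-, ⟨l', e⟩ | ⟨l, e⟩⟩
  · exact absurd e v1
  · exact eData1.1.2.2.2.1
  · exact eData1.2.1 l s1 (by simp [E1])
  · exact absurd (hv.trans (h.isConj_of l e).symm) I2
  · exact absurd (hv.trans (h.isConj_of l e).symm) I3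
  · exact absurd ((hv.trans (h.isConj_of l' e).symm).trans ((isConj_iff.mpr ⟨y, b2 ▸ a1 _ (hJ _ b6).1⟩).trans
      (h.isConj_of l b5).symm)) I2
  · exact absurd ((hv.trans (h.isConj_of l e).symm).trans (isConj_iff.mpr ⟨y, b3 ▸ a1 _ (hJ _ b7).1⟩).symm) I3

/-- The configuration generating `A₈`. -/
structure Cfg (f : cl msA →* G) (y1 y2 : G) : Prop where
  loc : Loc z f
  c1 : y1 ^ 3 = 1
  c2 : y2 ^ 3 = 1
  i1 : f e2 * y1 * (f e2)⁻¹ = y1⁻¹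
  i2 : f e1 * y2 * (f e1)⁻¹ = y2⁻¹
  a1 : ∀ r, r * s1 = s1 * r → y1 * f r * y1⁻¹ = f (A1 r)
  a2 : ∀ r, r * s2 = s2 * r → y2 * f r * y2⁻¹ = f (A2 r)
  comm : y1 * y2 = y2 * y1

theorem getCfg (h : Loc z f) (I2 : IsConj (f z) (f s2)) {y1 : G} (c1 : y1 ^ 3 = 1)
    (i1 : f e2 * y1 * (f e2)⁻¹ = y1⁻¹) (a1 : ∀ r, r * s1 = s1 * r → y1 * f r * y1⁻¹ = f (A1 r)) :
    ∃ y1 y2, Cfg f y1 y2 := by
  obtain ⟨y2, c2, i2, a2 | a2⟩ := getY2 h I2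
  all_goals obtain ⟨b1, -, b2, b3, b4, -, -, -, -, b5, b6, b7, zt, st, b8, b9, -⟩ := hA
  · have k1 : ∀ j, j * t = t * j → y1⁻¹ * y2⁻¹ * y1 * y2 * f j = f j * (y1⁻¹ * y2⁻¹ * y1 * y2) := fun j hj => by
      obtain ⟨d1, d2, d3, d4, -, d5, -⟩ := hJ j hj
      have : y1 * (y2 * f j * y2⁻¹) * y1⁻¹ = y2 * (y1 * f j * y1⁻¹) * y2⁻¹ := by
        rw [a1 j d1, a2 j d2, a1 _ (hJ _ d4).1, a2 _ (hJ _ d3).2.1, d5]
      calc _ = y1⁻¹ * y2⁻¹ * (y1 * (y2 * f j * y2⁻¹) * y1⁻¹) * y1 * y2 := by group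
        _ = _ := by rw [this]; group
    obtain ⟨k, hk⟩ := h.range _ (k1 z zt)
    have k2 : k * t = t * k := h.comm_iff.mp (hk ▸ k1 t rfl)
    obtain ⟨d1, d2, -, -, -, -, d3, d4, -⟩ := hJ k k2
    have k3 : f k = y2⁻¹ * y1⁻¹ * y2 * y1 := by
      rw [← inv_eq_of_mul_eq_one_right (show f k * f k = 1 by rw [← map_mul, d3, map_one]), hk]; group
    have k4 : f e1 * y1 * (f e1)⁻¹ = y1 := by
      have := a1 _ b8
      rw [b3] at this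
      rw [← mul_inv_eq_iff_eq_mul.mp this, mul_inv_cancel_right]
    have k5 : f e2 * y2 * (f e2)⁻¹ = y2 := by
      have := a2 _ b9
      rw [b4] at this
      rw [← mul_inv_eq_iff_eq_mul.mp this, mul_inv_cancel_right]
    rcases d4 (h.inj (by
        rw [← a2 k d2, k3, map_mul, map_mul, map_inv, hk, ← conj_mul, ← conj_mul, ← conj_mul, ← conj_inv, ← conj_inv,
          k4, i2]
        group)) (h.inj (by
        rw [← a1 k d1, k3, map_mul, map_mul, map_inv, hk, ← conj_mul, ← conj_mul, ← conj_mul, ← conj_inv, ← conj_inv,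
          k5, i1]
        group)) with e | e
    · refine ⟨y1, y2, h, c1, c2, i1, i2, a1, a2, ?_⟩
      rw [e, map_one] at hk
      calc _ = y2 * y1 * (y1⁻¹ * y2⁻¹ * y1 * y2) := by group
        _ = _ := by rw [← hk, mul_one]
    · obtain ⟨k6, k7⟩ := conj_y (r := f z) c1 i1 (h.comm _).symm
      have k8 : f z * y1 * (f z)⁻¹ = y1 * f s1 := by
        calc _ = f z * (y1 * f z * y1⁻¹)⁻¹ * (y1 * f s1 * y1⁻¹)⁻¹ * (y1 * f s1) := by group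
          _ = _ := by
            rw [a1 _ (h.cz _).symm, a1 _ rfl, b1, b2, ← map_inv, ← map_inv, ← map_mul, ← map_mul,
              inv_eq_of_mul_eq_one_right (hJ _ st).2.2.2.2.2.2.1, mul_inv_cancel, map_one, one_mul]
      refine ⟨_, y2, h, k6, c2, k7, i2, fun r hr => ?_, a2, ?_⟩
      · calc _ = f z * (y1 * ((f z)⁻¹ * (f r * f z)) * y1⁻¹) * (f z)⁻¹ := by group
          _ = _ := by rw [h.comm, inv_mul_cancel_left, a1 r hr, ← h.comm, mul_inv_cancel_right]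
      · have k9 : y2 * f k * y2⁻¹ * f s1 = y2 * f s1 * y2⁻¹ := by rw [a2 k d2, a2 _ (hJ _ st).2.1, ← map_mul, e]
        rw [k8]
        calc _ = y2 * y1 * y2⁻¹ * (y2 * f k * y2⁻¹ * f s1) * y2 := by rw [hk]; group
          _ = _ := by rw [k9]; group
  · exfalso
    have k1 : ∀ j, j * t = t * j → y1 * y2 * y1 * y2 * y1 * f j * (y1 * y2 * y1 * y2 * y1)⁻¹ =
        f (A1 (A3 (A1 (A3 (A1 j))))) := fun j hj => by
      have d1 := (hJ j hj).2.2.1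
      have d2 := (hJ _ d1).2.2.2.2.1
      have d3 := (hJ _ d2).2.2.1
      have d4 := (hJ _ d3).2.2.2.2.1
      rw [← a1 _ (hJ _ d4).1, ← a2 _ (hJ _ d3).2.1, ← a1 _ (hJ _ d2).1, ← a2 _ (hJ _ d1).2.1, ← a1 _ (hJ _ hj).1]
      simp only [mul_assoc, mul_inv_rev]
    obtain ⟨l, hl⟩ := h.range _ (mul_inv_eq_iff_eq_mul.mp (b5 ▸ k1 z zt))
    exact b7 l (h.inj (by rw [map_mul, map_mul, map_inv, hl, k1 t rfl, b6]))

end Cfsg.Agent.M12C.TA
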