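import Cfsg.Agent.M12C.TypeA1

/-! The case of the centralizer of type `A₈`: fusion and relations. -/

set_option autoImplicit false
set_option linter.unusedSectionVars false

namespace Cfsg.Agent.M12C.TA

open Subgroup Cfsg.Agent.Local Cfsg.Agent.Mat
open scoped Pointwise commutatorElement

variable {G : Type*} [Group G] [Finite G] {f : cl msA →* G} {y1 y2 : G}

attribute [local irreducible] al cmul cinv

theorem braid_aux (h : Loc z f) {E : List (cl msA)} {A : cl msA → cl msA} {y : G} {e : cl msA}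
    (i : f e * y * (f e)⁻¹ = y⁻¹) (c : y ^ 3 = 1) (ee : e * e = 1) (xx : xt * xt = 1)
    (a : ∀ v ∈ E, y * f v * y⁻¹ = f (A v) ∧ A v ∈ E) (hz : z ∈ E) (hE : ∀ g, (∀ v ∈ E, g * v = v * g) → g ∈ E)
    (h1 : ∀ v ∈ E, xt * A (e * (xt * A (e * (xt * A (e * v * e⁻¹) * xt⁻¹) * e⁻¹) * xt⁻¹) * e⁻¹) * xt⁻¹ = v ∧
      e * v * e⁻¹ ∈ E ∧ xt * v * xt⁻¹ ∈ E ∧ v * v = 1 ∧ (xt * v * xt⁻¹ = v → A (e * v * e⁻¹) = v → v = 1 ∨ xt * v ∈ TL))
    (hT : ∀ v ∈ TL, ¬ IsConj (f z) (f v)) (hZ : IsConj (f z) (f e)) : (f xt * (y * f e)) ^ 3 = 1 := by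
  have k0 : ∀ v ∈ E, y * f e * f v * (y * f e)⁻¹ = f (A (e * v * e⁻¹)) := fun v hv => by
    rw [← (a _ (h1 v hv).2.1).1, map_mul, map_mul, map_inv]; group
  have k1 : ∀ v ∈ E, f xt * (y * f e) * f v * (f xt * (y * f e))⁻¹ = f (xt * A (e * v * e⁻¹) * xt⁻¹) ∧
      xt * A (e * v * e⁻¹) * xt⁻¹ ∈ E := fun v hv =>
    ⟨by rw [map_mul, map_mul, map_inv, ← k0 v hv]; group, (h1 _ (a _ (h1 v hv).2.1).2).2.2.1⟩
  have k2 : ∀ v ∈ E, (f xt * (y * f e)) ^ 3 * f v = f v * (f xt * (y * f e)) ^ 3 := fun v hv => by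
    refine mul_inv_eq_iff_eq_mul.mp ?_
    conv_rhs => rw [← (h1 v hv).1, ← (k1 _ (k1 _ (k1 v hv).2).2).1, ← (k1 _ (k1 v hv).2).1, ← (k1 v hv).1]
    generalize f xt * (y * f e) = r
    rw [pow_succ, pow_two]
    simp only [mul_assoc, mul_inv_rev]
  obtain ⟨v, hv⟩ := h.range _ (k2 z hz)
  have k3 := hE v fun u hu => h.comm_iff.mp (hv ▸ k2 u hu)
  have k4 : f e * f e = 1 := by rw [← map_mul, ee, map_one]
  obtain ⟨k5, k6, k7⟩ := braid (a := f xt) (b := y * f e) (by rw [← map_mul, xx, map_one]) (by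
    rw [← mul_inv_cancel y, ← i, inv_eq_of_mul_eq_one_right k4]; group) hv.symm
    (by rw [← map_mul, (h1 v k3).2.2.2.1, map_one])
  rcases (h1 v k3).2.2.2.2 (h.inj (by rw [map_mul, map_mul, map_inv, k5])) (h.inj ((k0 v k3).symm.trans k6)) with e1 | e1
  · rw [← hv, e1, map_one]
  · refine absurd (hZ.trans (IsConj.trans (isConj_iff.mpr ⟨y⁻¹, ?_⟩) (map_mul f _ _ ▸ k7))) (hT _ e1)
    calc _ = y⁻¹ * (f e * y * (f e)⁻¹) * f e := by group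
      _ = y * (y ^ 3)⁻¹ * f e := by rw [i]; group
      _ = _ := by rw [c]; group

namespace Cfg

variable (h : Cfg f y1 y2)
include h

theorem j1 {j : cl msA} (hj : j * t = t * j) : y1 * f j * y1⁻¹ = f (A1 j) := h.a1 j (hJ j hj).1

theorem j2 {j : cl msA} (hj : j * t = t * j) : y2 * f j * y2⁻¹ = f (A2 j) := h.a2 j (hJ j hj).2.1

theorem j12 {j : cl msA} (hj : j * t = t * j) : y1 * y2 * f j * (y1 * y2)⁻¹ = f (A1 (A2 j)) := by
  rw [← h.j1 (hJ j hj).2.2.2.1, ← h.j2 hj]; group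

theorem j122 {j : cl msA} (hj : j * t = t * j) : y1 * y2⁻¹ * f j * (y1 * y2⁻¹)⁻¹ = f (A1 (A2 (A2 j))) := by
  rw [show y2⁻¹ = y2 * y2 from inv_eq_of_mul_eq_one_right (by rw [← h.c2, pow_succ, pow_two, mul_assoc]),
    ← h.j12 (hJ j hj).2.2.2.1, ← h.j2 hj]
  simp only [mul_assoc, mul_inv_rev]

theorem hZ {K : Subgroup G} (hK : ∀ u, f u ∈ K) (k1 : y1 ∈ K) (k2 : y2 ∈ K) :
    ∀ v ∈ ZL, ∃ k ∈ K, k * f z * k⁻¹ = f v := fun v hv => by
  obtain ⟨b1, b2, -, -, -, b3, -, -, ⟨l', b4⟩, -, -, -, zt, -, -, -, b5, -⟩ := hA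
  have e1 := b1 ▸ h.j1 zt
  have e2 := b2 ▸ h.j2 zt
  rcases clsZ.1 v hv with rfl | ⟨l, rfl⟩ | ⟨l, rfl⟩ | ⟨l, rfl⟩
  · exact ⟨1, one_mem _, by simp⟩
  · exact ⟨f l * y1, mul_mem (hK l) k1, by rw [map_mul, map_mul, map_inv, ← e1]; group⟩
  · exact ⟨f l * y2, mul_mem (hK l) k2, by rw [map_mul, map_mul, map_inv, ← e2]; group⟩
  · refine ⟨f l * y1⁻¹ * f l' * y2, mul_mem (mul_mem (mul_mem (hK l) (inv_mem k1)) (hK l')) k2, ?_⟩
    calc _ = f l * (y1⁻¹ * (f l' * (y2 * f z * y2⁻¹) * (f l')⁻¹) * y1) * (f l)⁻¹ := by group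
      _ = _ := by
        rw [e2, ← map_inv f l', ← map_mul, ← map_mul, b4, ← b3, ← h.j1 b5, map_mul, map_mul, map_inv]; group

theorem isZ {v : cl msA} (hv : v ∈ ZL) : IsConj (f z) (f v) :=
  let ⟨k, _, e⟩ := h.hZ (K := ⊤) (fun _ => trivial) trivial trivial v hv; isConj_iff.mpr ⟨k, e⟩

theorem hT {K : Subgroup G} (hK : ∀ u, f u ∈ K) (k1 : y1 ∈ K) : ∀ v ∈ TL, ∃ k ∈ K, k * f t0 * k⁻¹ = f v := fun v hv => by
  obtain ⟨-, -, -, -, -, -, b1, -, -, -, -, -, -, -, -, -, -, b2, -⟩ := hA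
  rcases clsZ.2.1 v hv with ⟨l, rfl⟩ | ⟨l, rfl⟩
  · exact ⟨f l, hK l, by rw [map_mul, map_mul, map_inv]⟩
  · exact ⟨f l * y1, mul_mem (hK l) k1, by rw [map_mul, map_mul, map_inv, ← b1, ← h.j1 b2]; group⟩

theorem I3 : ¬ IsConj (f z) (f t0) := fun e => by
  obtain ⟨-, -, -, -, -, -, -, -, -, -, -, -, zt, -, -, -, -, -, -, b1, b2⟩ := hA
  obtain ⟨d1, d2, d3, ⟨l, d4⟩, d5, d6, -⟩ := hB
  obtain ⟨g, hg⟩ := isConj_iff.mp (e.trans (h.loc.isConj_of l d4))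
  obtain ⟨r, hr⟩ := h.loc.range_conj (g := g) (x := y1 * y2) (hg ▸ mul_inv_eq_iff_eq_mul.mp ((h.j12 b1).trans (congrArg f d1)))
  obtain ⟨v, hv⟩ := h.loc.range_conj (g := g) (x := f s') (hg ▸ h.loc.comm_iff.mpr hC.2.2.2.2.2.2.2.1.symm)
  have h4 := h.loc.conj g
  rcases F5 r (h4.inj (by
      show g * f (r ^ 3) * g⁻¹ = _
      rw [map_pow, ← conj_pow, hr, (show Commute y1 y2 from h.comm).mul_pow, h.c1, h.c2, mul_one, map_one]))
    (fun e => d3 (h.loc.inj (by rw [← h.j12 zt, ← hr, e]; simp))) v (h4.inj (by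
      show g * f (v * v) * g⁻¹ = _
      rw [map_mul, ← conj_mul, hv, ← map_mul, hC.2.2.2.2.2.2.1, map_one, map_one])) (h4.comm_iff.mp (by
      show g * f v * g⁻¹ * (g * f r * g⁻¹) = g * f r * g⁻¹ * (g * f v * g⁻¹)
      rw [hv, hr]
      exact (mul_inv_eq_iff_eq_mul.mp ((h.j12 b2).trans (congrArg f d2))).symm)) with rfl | rfl
  · exact h.loc.ne d5 (by simpa using hv.symm)
  · exact d6 (h.loc.inj (hv.symm.trans hg))

theorem isT {v : cl msA} (hv : v ∈ TL) : ¬ IsConj (f z) (f v) := fun e =>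
  let ⟨k, _, e1⟩ := h.hT (K := ⊤) (fun _ => trivial) trivial v hv; h.I3 (e.trans (isConj_iff.mpr ⟨k, e1⟩).symm)

theorem mem_ZL {v : cl msA} (hv : IsConj (f z) (f v)) : v ∈ ZL :=
  ((clsZ.2.2 v (h.loc.sq_of_isConj hv).1).resolve_left (h.loc.sq_of_isConj hv).2).resolve_right fun e => h.isT e hv

theorem rels (ex : List G) : ∀ r ∈ rels15,
    ev ((List.range 11).map (fun i => f (el msA [i])) ++ y1 :: y1⁻¹ :: y2 :: y2⁻¹ :: ex) r = 1 := by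
  set gs := (List.range 11).map (fun i => f (el msA [i])) ++ y1 :: y1⁻¹ :: y2 :: y2⁻¹ :: ex
  have g0 : ∀ l, (∀ a ∈ l, a < 11) → ev gs l = f (w l) := fun l hl => w_eq ▸ ev_low f 11 _ hl
  have g1 : ev gs [11] = y1 := mul_one _
  have g2 : ev gs [12] = y1⁻¹ := mul_one _
  have g3 : ev gs [13] = y2 := mul_one _
  have g4 : ev gs [14] = y2⁻¹ := mul_one _
  obtain ⟨-, -, -, -, -, -, -, -, -, -, -, -, xx, ee1, ee2, z1, z2, d1, d2, d3, d4, d5, d6⟩ := hB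
  have b1 := braid_aux h.loc h.i1 h.c1 ee2 xx (fun v hv => ⟨h.a1 v (hA.2.2.2.2.2.2.2.1 v hv).1,
    (hA.2.2.2.2.2.2.2.1 v hv).2⟩) d5 eData1.2.2.2.2.2 d1 (fun _ => h.isT) (h.isZ z2)
  have b2 := braid_aux h.loc h.i2 h.c2 ee1 xx (fun v hv => ⟨h.a2 v (d3 v hv).1, (d3 v hv).2⟩) d6 d4 d2
    (fun _ => h.isT) (h.isZ z1)
  have b3 : ∀ {y e : G}, e * y * e⁻¹ = y⁻¹ → e * e = 1 → y * e * y * e = 1 := fun {y e} i ee => by
    rw [← mul_inv_cancel y, ← i, inv_eq_of_mul_eq_one_right ee]; group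
  rw [show rels15 = relsA ++ [[11] ++ [12], [12] ++ [11], [13] ++ [14], [14] ++ [13], [11] ++ [11] ++ [11],
    [13] ++ [13] ++ [13], [11] ++ [2, 5] ++ [11] ++ [2, 5], [13] ++ [0, 7] ++ [13] ++ [0, 7],
    [11] ++ [3] ++ [12] ++ [4, 10, 6], [11] ++ [10] ++ [12] ++ [6, 10, 7], [11] ++ [0, 5] ++ [12] ++ [2, 10, 2],
    [13] ++ [7] ++ [14] ++ [0, 10, 2], [13] ++ [10] ++ [14] ++ [2, 10, 3], [13] ++ [0, 5] ++ [14] ++ [6, 10, 6],
    [11] ++ [13] ++ [12] ++ [14], [8, 10] ++ ([11] ++ [2, 5]) ++ ([8, 10] ++ ([11] ++ [2, 5])) ++ ([8, 10] ++ ([11] ++ [2, 5])),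
    [8, 10] ++ ([13] ++ [0, 7]) ++ ([8, 10] ++ ([13] ++ [0, 7])) ++ ([8, 10] ++ ([13] ++ [0, 7]))] from rfl]
  simp only [List.forall_mem_append, List.forall_mem_cons, ev_append, g1, g2, g3, g4, g0 [2, 5] (by decide),
    g0 [0, 7] (by decide), g0 [3] (by decide), g0 [4, 10, 6] (by decide), g0 [10] (by decide), g0 [6, 10, 7] (by decide),
    g0 [0, 5] (by decide), g0 [2, 10, 2] (by decide), g0 [7] (by decide), g0 [0, 10, 2] (by decide),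
    g0 [2, 10, 3] (by decide), g0 [6, 10, 6] (by decide), g0 [8, 10] (by decide),
    h.a1 _ (hW.1 (w [3]) (by simp)), h.a1 _ (hW.1 t (by simp)), h.a1 _ (hW.1 z' (by simp)),
    h.a2 _ (hW.2.2.1 (w [7]) (by simp)), h.a2 _ (hW.2.2.1 t (by simp)), h.a2 _ (hW.2.2.1 z' (by simp)), ← map_mul,
    hD, map_one, true_and]
  refine ⟨fun r hr => ?_, by simp, by simp, by simp, by simp, by rw [← h.c1, pow_succ, pow_two],
    by rw [← h.c2, pow_succ, pow_two], b3 h.i1 (by rw [← map_mul, ee2, map_one]),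
    b3 h.i2 (by rw [← map_mul, ee1, map_one]), by rw [h.comm]; simp, by rw [← b1, pow_succ, pow_two],
    by rw [← b2, pow_succ, pow_two], by simp⟩
  rw [g0 r (by revert r; decide), w_eq, show el msA r = 1 from Subtype.ext (relsA_ms r hr), map_one]

end Cfg

end Cfsg.Agent.M12C.TA
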